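import Groth.Agent.L04.Graded.CanonicalHom
import Groth.Agent.L12.GrLCExt

/-!
# Graded local duality over Cohen–Macaulay rings
-/

set_option autoImplicit false
set_option maxHeartbeats 1000000
universe u

open DirectSum Groth.L12.GrLCLib CategoryTheory CategoryTheory.Abelian

noncomputable section

namespace Groth.L04.Graded

variable {R : Type u} [CommRing R] {𝒜 : ℤ → AddSubgroup R} [GradedRing 𝒜]
variable {a : HomogeneousIdeal 𝒜} {I : GrLC.StarInjRes 𝒜 𝒜}
variable {C : Type u} [AddCommGroup C] [Module R C] {𝒞 : ℤ → AddSubgroup C} [DirectSum.Decomposition 𝒞]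
  [SetLike.GradedSMul 𝒜 𝒞]
variable {X : Type u} [AddCommGroup X] [Module R X] {𝒳 : ℤ → AddSubgroup X} [DirectSum.Decomposition 𝒳]
  [SetLike.GradedSMul 𝒜 𝒳]

variable {M : Type u} [AddCommGroup M] [Module R M] {ℳ : ℤ → AddSubgroup M} [DirectSum.Decomposition ℳ]
  [SetLike.GradedSMul 𝒜 ℳ]

variable (a) in
/-- Graded local cohomology as a graded module. -/
def HG (E : GrLC.StarInjRes 𝒜 ℳ) (i : ℕ) : GrLC.GMod.{u} 𝒜 :=
  { carrier := E.H a i
    gr := E.Hgr a i
    dec := (Hgr_isInternal a E i).chooseDecomposition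
    gsmul := ⟨fun {_ _ _ _} hy hx => smul_mem_Hgr E a i hy hx⟩ }

theorem subsingleton_H_free {t : ℕ} (deg : Fin t → ℤ) (F : GrLC.StarInjRes 𝒜 (freeG 𝒜 deg).gr) (i : ℕ)
    (h : Subsingleton (I.H a i)) : Subsingleton (F.H a i) :=
  subsingleton_of_forall_eq 0 fun w => by
    rw [← sum_psi_coord a I deg F i w]
    exact Finset.sum_eq_zero fun b _ => by rw [@Subsingleton.elim _ h (coord a I deg F b i w) 0, map_zero]

/-- Homogeneous functionals extend. -/
theorem exists_extend_deg (hX : GrLC.IsStarInj 𝒜 𝒳) {P Q : GrLC.GMod.{u} 𝒜} (f : P.carrier →ₗ[R] Q.carrier)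
    (hf : GrLC.IsGrHom P.gr Q.gr f) (L : P.carrier →ₗ[R] X) {g : ℤ} (hL : GrLC.IsGrHomDeg P.gr 𝒳 L g)
    (hker : LinearMap.ker f ≤ LinearMap.ker L) :
    ∃ L' : Q.carrier →ₗ[R] X, GrLC.IsGrHomDeg Q.gr 𝒳 L' g ∧ L' ∘ₗ f = L := by
  let φ : P.carrier →ₗ[R] (shG 𝒜 𝒳 g).carrier := L
  obtain ⟨h, hh, hc⟩ := exists_extend (starInj_shift hX g) f hf φ hL hker
  exact ⟨h, hh, hc⟩

variable [IsNoetherianRing R] [Module.Finite R C] {n : ℕ}

/-- Graded local duality: `Ext^t(M, C)` is the dual of `H^{n-t}(M)`. -/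
theorem nonempty_duality (K : CanDatum a I 𝒞 𝒳 n) (hvan : ∀ i, i < n → Subsingleton (I.H a i)) :
    ∀ (t p : ℕ), p + t = n → ∀ (M : GrLC.GMod.{u} 𝒜), Module.Finite R M.carrier →
      ∀ E : GrLC.StarInjRes 𝒜 M.gr, Nonempty (homFun R 𝒳 (E.Hgr a p) ≃ₗ[R]
        Ext.{u} (ModuleCat.of R M.carrier) (ModuleCat.of R C) t) := by
  intro t
  induction t with
  | zero =>
    intro p hp M hM E
    obtain rfl : p = n := hp
    obtain ⟨Λ, -, hinj, -, hsur, hmem⟩ := exists_homDual E K
    obtain ⟨e⟩ := nonempty_equiv_homFun Λ hinj hmem hsur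
    exact ⟨e.symm.trans ((Ext.linearEquiv₀ (R := R)).trans ModuleCat.homLinearEquiv).symm⟩
  | succ t ih =>
    intro p hp M hM E
    obtain ⟨s, deg, g, hg, hsurj⟩ := exists_free_cover 𝒜 M.gr
    haveI hN : IsNoetherian R (freeG 𝒜 deg).carrier := inferInstanceAs (IsNoetherian R (Fin s → R))
    haveI hP : CategoryTheory.Projective (ModuleCat.of R (freeG 𝒜 deg).carrier) :=
      (IsProjective.iff_projective _).1 (inferInstanceAs (Module.Projective R (Fin s → R)))
    have hK : (LinearMap.ker g).IsHomogeneous (freeG 𝒜 deg).gr := ker_isHomogeneous (freeG 𝒜 deg).gr M.gr hg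
    let KG := subG 𝒜 (freeG 𝒜 deg).gr _ hK
    haveI hKfin : Module.Finite R KG.carrier := Module.Finite.of_fg (IsNoetherian.noetherian _)
    haveI hFfin : Module.Finite R (freeG 𝒜 deg).carrier := inferInstanceAs (Module.Finite R (Fin s → R))
    let incl : KG.carrier →ₗ[R] (freeG 𝒜 deg).carrier := (LinearMap.ker g).subtype
    have hincl : GrLC.IsGrHom KG.gr (freeG 𝒜 deg).gr incl := fun _ _ hx => hx
    have hS := Groth.L04.LC.ses_shortExact (LinearMap.ker g).subtype g (LinearMap.ker g).injective_subtype hsurj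
      g.exact_subtype_ker_map
    obtain ⟨EK⟩ := nonempty_starInjRes 𝒜 KG.gr
    obtain ⟨F⟩ := nonempty_starInjRes 𝒜 (freeG 𝒜 deg).gr
    obtain ⟨φ, hφ⟩ := exists_map EK F incl hincl
    obtain ⟨ψ, hψ⟩ := exists_map F E g hg
    obtain ⟨δ, hδ, -, hx2, hx3, -⟩ := exists_les EK F E a (f := incl) (g := g) (LinearMap.ker g).injective_subtype
      hsurj (Submodule.range_subtype _) hincl hg hφ hψ
    have hδi : Function.Injective (δ p) := (injective_iff_map_eq_zero _).2 fun x hx => by
      obtain ⟨y, rfl⟩ := (hx2 p x).1 hx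
      rw [@Subsingleton.elim _ (subsingleton_H_free deg F p (hvan p (by omega))) y 0, map_zero]
    cases t with
    | zero =>
      obtain rfl : p + 1 = n := hp
      obtain ⟨ΛK, hspecK, hinjK, hdegK, hsurK, hmemK⟩ := exists_homDual EK K
      obtain ⟨ΛF, hspecF, -, -, hsurF, -⟩ := exists_homDual F K
      have hnat : ∀ h : (freeG 𝒜 deg).carrier →ₗ[R] C, ΛK (h ∘ₗ incl) = ΛF h ∘ₗ hφ.Hmap a (p + 1) := fun h =>
        ext_psi EK K fun d z hz v => by
          rw [hspecK, LinearMap.comp_apply, LinearMap.comp_apply, ← Hmor_eq a hincl hφ, psi_comp a I EK F hincl hz, hspecF]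
      let π : (KG.carrier →ₗ[R] C) →ₗ[R] homFun R 𝒳 (E.Hgr a p) :=
        LinearMap.codRestrict _ (LinearMap.lcomp R X (δ p) ∘ₗ ΛK) fun f => comp_mem_homFun (hδ p) (hmemK f)
      have hXinj : GrLC.IsStarInj 𝒜 𝒳 := K.hX.starInj K.h0
      have hπs : Function.Surjective π := by
        have hle : homFun R 𝒳 (E.Hgr a p) ≤ LinearMap.range (LinearMap.lcomp R X (δ p) ∘ₗ ΛK) := by
          refine Submodule.span_le.2 ?_
          rintro L ⟨d, hL⟩
          obtain ⟨L', hL', hc⟩ := exists_extend_deg (P := HG a E p) (Q := HG a EK (p + 1)) hXinj (δ p) (hδ p) L hL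
            (le_trans (le_of_eq (LinearMap.ker_eq_bot.2 hδi)) bot_le)
          obtain ⟨f, hf⟩ := hsurK d L' hL'
          exact ⟨f, (congrArg (fun x => x ∘ₗ δ p) hf).trans hc⟩
        rintro ⟨L, hL⟩
        obtain ⟨f, hf⟩ := hle hL
        exact ⟨f, Subtype.ext hf⟩
      have hπ : LinearMap.ker π = LinearMap.range (LinearMap.lcomp R C incl) := by
        refine le_antisymm (fun f hf => ?_) ?_
        · classical
          obtain ⟨S, fd, hfd, rfl⟩ := exists_hom_decomp 𝒜 KG.gr 𝒞 f
          have hz : ∑ d ∈ S, ΛK (fd d) ∘ₗ δ p = 0 := by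
            have h1 : ΛK (∑ d ∈ S, fd d) ∘ₗ δ p = 0 := congrArg Subtype.val (LinearMap.mem_ker.1 hf)
            rw [← h1, map_sum]
            exact LinearMap.ext fun w => by simp
          letI := (Hgr_isInternal a E p).chooseDecomposition
          have hz' := eq_zero_of_sum_eq_zero (fun d => comp_grHomDeg (hδ p) (hdegK d _ (hfd d))) hz
          refine sum_mem fun d hd => ?_
          obtain ⟨L', hL', hc⟩ := exists_extend_deg (P := HG a EK (p + 1)) (Q := HG a F (p + 1)) hXinj
            (hφ.Hmap a (p + 1)) (hφ.Hmap_grHom a (p + 1)) (ΛK (fd d)) (hdegK d _ (hfd d)) fun x hx => by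
              obtain ⟨y, rfl⟩ := (hx3 p x).1 hx
              exact LinearMap.congr_fun (hz' d hd) y
          obtain ⟨h, hh⟩ := hsurF d L' hL'
          exact ⟨h, hinjK ((hnat h).trans (by rw [hh]; exact hc))⟩
        · rintro _ ⟨h, rfl⟩
          refine LinearMap.mem_ker.2 (Subtype.ext (LinearMap.ext fun w => ?_))
          change ΛK (h ∘ₗ incl) (δ p w) = 0
          rw [hnat, LinearMap.comp_apply, (hx3 p (δ p w)).2 ⟨w, rfl⟩, map_zero]
      let e0 : (KG.carrier →ₗ[R] C) ≃ₗ[R] Ext.{u} (ModuleCat.of R KG.carrier) (ModuleCat.of R C) 0 :=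
        ((Ext.linearEquiv₀ (R := R)).trans ModuleCat.homLinearEquiv).symm
      let q : (KG.carrier →ₗ[R] C) →ₗ[R] Ext.{u} (ModuleCat.of R M.carrier) (ModuleCat.of R C) 1 :=
        Ext.precompOfLinear hS.extClass R (ModuleCat.of R C) (add_zero 1) ∘ₗ e0.toLinearMap
      have hqs : Function.Surjective q := fun x => by
        obtain ⟨y, hy⟩ := Ext.contravariant_sequence_exact₃ hS (ModuleCat.of R C) x
          (@Subsingleton.elim _ (Ext.subsingleton_of_projective (ModuleCat.of R (freeG 𝒜 deg).carrier) _ _) _ _)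
          (add_zero 1)
        exact ⟨e0.symm y, (congrArg (fun z => hS.extClass.comp z (add_zero 1)) (e0.apply_symm_apply y)).trans hy⟩
      have hq : LinearMap.ker q = LinearMap.range (LinearMap.lcomp R C incl) := by
        refine le_antisymm (fun f hf => ?_) ?_
        · obtain ⟨x, hx⟩ := Ext.contravariant_sequence_exact₁ hS (ModuleCat.of R C) (e0 f) (add_zero 1) hf
          obtain ⟨h, rfl⟩ := (Ext.mk₀_bijective _ _).2 x
          refine ⟨h.hom, ?_⟩
          have h1 : Ext.mk₀ (ModuleCat.ofHom (LinearMap.ker g).subtype ≫ h) = Ext.mk₀ (ModuleCat.ofHom f) := by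
            rw [← Ext.mk₀_comp_mk₀]
            exact hx
          exact congrArg ModuleCat.Hom.hom ((Ext.mk₀_bijective _ _).1 h1)
        · rintro _ ⟨h, rfl⟩
          refine LinearMap.mem_ker.2 ?_
          change hS.extClass.comp (Ext.mk₀ (ModuleCat.ofHom (LinearMap.ker g).subtype ≫ ModuleCat.ofHom h)) (add_zero 1) = 0
          rw [← Ext.mk₀_comp_mk₀, hS.extClass_comp_assoc]
      exact ⟨((π.quotKerEquivOfSurjective hπs).symm.trans (Submodule.quotEquivOfEq _ _ (hπ.trans hq.symm))).trans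
        (q.quotKerEquivOfSurjective hqs)⟩
    | succ t =>
      have hδs : Function.Surjective (δ p) := fun y =>
        (hx3 p y).1 (@Subsingleton.elim _ (subsingleton_H_free deg F (p + 1) (hvan (p + 1) (by omega))) _ _)
      let e : E.H a p ≃ₗ[R] EK.H a (p + 1) := LinearEquiv.ofBijective (δ p) ⟨hδi, hδs⟩
      have he : GrLC.IsGrHom (E.Hgr a p) (EK.Hgr a (p + 1)) e.toLinearMap := hδ p
      letI := (Hgr_isInternal a E p).chooseDecomposition
      letI := (Hgr_isInternal a EK (p + 1)).chooseDecomposition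
      obtain ⟨e₁⟩ := nonempty_homFun_congr (X := X) (𝒳 := 𝒳) e he (grHom_symm e he)
      obtain ⟨e₂⟩ := ih (p + 1) (by omega) KG hKfin EK
      let q : Ext.{u} (ModuleCat.of R KG.carrier) (ModuleCat.of R C) (t + 1) →ₗ[R]
          Ext.{u} (ModuleCat.of R M.carrier) (ModuleCat.of R C) (t + 1 + 1) :=
        Ext.precompOfLinear hS.extClass R (ModuleCat.of R C) (add_comm 1 (t + 1))
      have hqb : Function.Bijective q := by
        refine ⟨(injective_iff_map_eq_zero q).2 fun x hx => ?_, fun x => ?_⟩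
        · obtain ⟨y, rfl⟩ := Ext.contravariant_sequence_exact₁ hS (ModuleCat.of R C) x (add_comm 1 (t + 1)) hx
          rw [@Subsingleton.elim _ (Ext.subsingleton_of_projective (ModuleCat.of R (freeG 𝒜 deg).carrier) _ _) y 0,
            Ext.comp_zero]
          rfl
        · exact Ext.contravariant_sequence_exact₃ hS (ModuleCat.of R C) x
            (@Subsingleton.elim _ (Ext.subsingleton_of_projective (ModuleCat.of R (freeG 𝒜 deg).carrier) _ _) _ _)
            (add_comm 1 (t + 1))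
      exact ⟨(e₁.symm.trans e₂).trans (LinearEquiv.ofBijective q hqb)⟩

end Groth.L04.Graded
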