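import Groth.Agent.L12.GrLCMatlis

/-!
# Duals with values in a graded dual of the ring

For a graded object `H` the module `homFun ℋ 𝒳` of finite sums of homogeneous functionals with values in a graded
dual `X` of the ring plays the role of the graded Matlis dual.
-/

set_option autoImplicit false
universe u

open DirectSum Groth.L12.GrLCLib

namespace Groth.L04.Graded

variable {R : Type u} [CommRing R]
variable {X : Type u} [AddCommGroup X] [Module R X] (𝒳 : ℤ → AddSubgroup X)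
variable {H : Type u} [AddCommGroup H] [Module R H] (ℋ : ℤ → AddSubgroup H)

variable (R) in
/-- The finite sums of homogeneous functionals. -/
def homFun : Submodule R (H →ₗ[R] X) :=
  Submodule.span R {L | ∃ g, GrLC.IsGrHomDeg ℋ 𝒳 L g}

variable {𝒳 ℋ}

theorem mem_homFun {L : H →ₗ[R] X} {g : ℤ} (hL : GrLC.IsGrHomDeg ℋ 𝒳 L g) : L ∈ homFun R 𝒳 ℋ :=
  Submodule.subset_span ⟨g, hL⟩

theorem nonempty_equiv_homFun {D : Type u} [AddCommGroup D] [Module R D] (B : D →ₗ[R] H →ₗ[R] X)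
    (hB : Function.Injective B) (hle : ∀ d, B d ∈ homFun R 𝒳 ℋ)
    (hge : ∀ g L, GrLC.IsGrHomDeg ℋ 𝒳 L g → ∃ d, B d = L) : Nonempty (D ≃ₗ[R] homFun R 𝒳 ℋ) := by
  have h : LinearMap.range B = homFun R 𝒳 ℋ := by
    refine le_antisymm (LinearMap.range_le_iff_comap.2 (eq_top_iff.2 fun d _ => hle d)) (Submodule.span_le.2 ?_)
    rintro L ⟨g, hL⟩
    exact hge g L hL
  exact ⟨(LinearEquiv.ofInjective B hB).trans (LinearEquiv.ofEq _ _ h)⟩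

variable {H' : Type u} [AddCommGroup H'] [Module R H'] {ℋ' : ℤ → AddSubgroup H'}

theorem comp_grHomDeg {e : H' →ₗ[R] H} (he : GrLC.IsGrHom ℋ' ℋ e) {L : H →ₗ[R] X} {g : ℤ}
    (hL : GrLC.IsGrHomDeg ℋ 𝒳 L g) : GrLC.IsGrHomDeg ℋ' 𝒳 (L ∘ₗ e) g :=
  fun j x hx => hL j _ (he j x hx)

theorem comp_mem_homFun {e : H' →ₗ[R] H} (he : GrLC.IsGrHom ℋ' ℋ e) {L : H →ₗ[R] X} (hL : L ∈ homFun R 𝒳 ℋ) :
    L ∘ₗ e ∈ homFun R 𝒳 ℋ' := by
  induction hL using Submodule.span_induction with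
  | mem L h =>
    obtain ⟨g, hg⟩ := h
    exact mem_homFun (comp_grHomDeg he hg)
  | zero => rw [LinearMap.zero_comp]; exact zero_mem _
  | add a b _ _ ha hb => rw [LinearMap.add_comp]; exact add_mem ha hb
  | smul r a _ ha => rw [LinearMap.smul_comp]; exact Submodule.smul_mem _ r ha

theorem grHom_symm [DirectSum.Decomposition ℋ] [DirectSum.Decomposition ℋ'] (e : H' ≃ₗ[R] H)
    (he : GrLC.IsGrHom ℋ' ℋ e.toLinearMap) : GrLC.IsGrHom ℋ ℋ' e.symm.toLinearMap := fun j x hx => by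
  have h : e (cp ℋ' j (e.symm x)) = x := by
    refine (cp_map ℋ' ℋ e.toLinearMap.toAddMonoidHom he j (e.symm x)).symm.trans ?_
    change cp ℋ j (e (e.symm x)) = x
    rw [e.apply_symm_apply]
    exact cp_same ℋ hx
  change e.symm x ∈ ℋ' j
  rw [← h, e.symm_apply_apply]
  exact cp_mem ℋ' j _

theorem nonempty_homFun_congr (e : H' ≃ₗ[R] H) (he : GrLC.IsGrHom ℋ' ℋ e.toLinearMap)
    (he' : GrLC.IsGrHom ℋ ℋ' e.symm.toLinearMap) : Nonempty (homFun R 𝒳 ℋ ≃ₗ[R] homFun R 𝒳 ℋ') :=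
  nonempty_equiv_homFun ((LinearMap.lcomp R X e.toLinearMap) ∘ₗ (homFun R 𝒳 ℋ).subtype)
    (fun a b h => Subtype.ext (LinearMap.ext fun x => by
      simpa using LinearMap.congr_fun h (e.symm x)))
    (fun d => comp_mem_homFun he d.2)
    fun g L hL => ⟨⟨L ∘ₗ e.symm.toLinearMap, mem_homFun (comp_grHomDeg he' hL)⟩,
      LinearMap.ext fun x => congrArg L (e.symm_apply_apply x)⟩

/-- Homogeneous functionals of different degrees are independent. -/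
theorem eq_zero_of_sum_eq_zero [DirectSum.Decomposition ℋ] [DirectSum.Decomposition 𝒳] {s : Finset ℤ}
    {L : ℤ → (H →ₗ[R] X)} (hL : ∀ g, GrLC.IsGrHomDeg ℋ 𝒳 (L g) g) (h : ∑ g ∈ s, L g = 0) :
    ∀ g ∈ s, L g = 0 := fun g hg => LinearMap.ext fun x => by
  induction x using induction_on_hom ℋ with
  | h0 => simp
  | ha a b ha hb => rw [map_add, ha, hb, map_add]
  | hh j y hy =>
    have h1 := congrArg (cp 𝒳 (j + g)) (LinearMap.congr_fun h y)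
    rw [LinearMap.sum_apply, map_sum, Finset.sum_eq_single g
      (fun b _ hb => cp_ne 𝒳 (hL b j y hy) (fun e => hb (add_left_cancel e))) (fun hn => absurd hg hn),
      cp_same 𝒳 (hL g j y hy), LinearMap.zero_apply, map_zero] at h1
    rw [h1, LinearMap.zero_apply]

section Eval

variable {𝒜 : ℤ → AddSubgroup R} [GradedRing 𝒜]
variable [DirectSum.Decomposition 𝒳] [SetLike.GradedSMul 𝒜 𝒳]
variable {S : Type u} [CommRing S] [IsNoetherianRing S] [Algebra R S] {𝒜' : ℤ → AddSubgroup S} [GradedRing 𝒜']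
variable {X' : Type u} [AddCommGroup X'] [Module S X'] [Module R X'] [IsScalarTower R S X']
  {𝒳' : ℤ → AddSubgroup X'} [DirectSum.Decomposition 𝒳'] [SetLike.GradedSMul 𝒜' 𝒳']
variable {C : Type u} [AddCommGroup C] [Module S C] {𝒞 : ℤ → AddSubgroup C} [DirectSum.Decomposition 𝒞]
  [SetLike.GradedSMul 𝒜' 𝒞] [Module.Finite S C]
variable (hX : IsDual 𝒜 𝒳) (hX' : IsDual 𝒜' 𝒳') (h0' : IsField (GrLC.deg0 𝒜'))
  (hf : ∀ j, ∀ r ∈ 𝒜 j, algebraMap R S r ∈ 𝒜' j) (hf0 : ∀ s ∈ 𝒜' 0, ∃ r ∈ 𝒜 0, algebraMap R S r = s)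
  (μ : X' →ₗ[R] X) (hμ : GrLC.IsGrHom 𝒳' 𝒳 μ) (hμ0 : ∀ y ∈ 𝒳 0, ∃ x ∈ 𝒳' 0, μ x = y)
  (hμi : ∀ x ∈ 𝒳' 0, μ x = 0 → x = 0)

include hX hX' h0' hf hf0 hμ hμ0 hμi in
/-- A homogeneous functional on `Hom(C, X')` is the evaluation at a homogeneous element. -/
theorem exists_eval_eq {g : ℤ} (L : (C →ₗ[S] X') →ₗ[R] X)
    (hL : ∀ j, ∀ ψ ∈ GrLC.homDeg 𝒜' 𝒞 𝒳' j, L ψ ∈ 𝒳 (j + g)) : ∃ c ∈ 𝒞 g, ∀ ψ, L ψ = μ (ψ c) := by
  classical
  have hL0 : ∀ ψ ∈ GrLC.homDeg 𝒜' 𝒞 𝒳' (-g), L ψ ∈ 𝒳 0 := fun ψ hψ => by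
    have := hL _ ψ hψ
    rwa [neg_add_cancel] at this
  choose x hx hx' using fun ψ hψ => hμ0 _ (hL0 ψ hψ)
  let lam : (C →ₗ[S] X') → X' := fun ψ => if h : ψ ∈ GrLC.homDeg 𝒜' 𝒞 𝒳' (-g) then x ψ h else 0
  have hlam : ∀ ψ ∈ GrLC.homDeg 𝒜' 𝒞 𝒳' (-g), lam ψ ∈ 𝒳' 0 ∧ μ (lam ψ) = L ψ := fun ψ h => by
    simp only [lam, dif_pos h]
    exact ⟨hx ψ h, hx' ψ h⟩
  have hinj : ∀ a ∈ 𝒳' 0, ∀ b ∈ 𝒳' 0, μ a = μ b → a = b := fun a ha b hb e =>
    sub_eq_zero.1 (hμi _ (sub_mem ha hb) (by rw [map_sub, e, sub_self]))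
  obtain ⟨c, ⟨hc, hc'⟩, -⟩ := hX'.exists_eval (C := C) (𝒞 := 𝒞) h0' g lam (fun ψ h => (hlam ψ h).1)
    (fun ψ h ψ' h' => hinj _ (hlam _ (add_mem h h')).1 _ (add_mem (hlam ψ h).1 (hlam ψ' h').1) (by
      rw [(hlam _ (add_mem h h')).2, map_add, map_add, (hlam ψ h).2, (hlam ψ' h').2]))
    (fun r hr ψ h => by
      obtain ⟨r0, hr0, rfl⟩ := hf0 r hr
      have hmem : algebraMap R S r0 • ψ ∈ GrLC.homDeg 𝒜' 𝒞 𝒳' (-g) :=
        (GrLC.homDeg 𝒜' 𝒞 𝒳' (-g)).smul_mem ⟨_, hr⟩ h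
      refine hinj _ (hlam _ hmem).1 _ (by
        have := smul_mem' 𝒜' 𝒳' hr (hlam ψ h).1
        rwa [add_zero] at this) ?_
      rw [(hlam _ hmem).2, algebraMap_smul, algebraMap_smul, map_smul, map_smul, (hlam ψ h).2])
  refine ⟨c, hc, fun ψ => ?_⟩
  suffices key : ∀ j, ∀ ψ ∈ GrLC.homDeg 𝒜' 𝒞 𝒳' j, L ψ = μ (ψ c) by
    obtain ⟨s, f, hf', -, rfl⟩ := exists_sum_homPart (𝒜 := 𝒜') (𝒞 := 𝒞) (𝒳 := 𝒳') ψ
    rw [map_sum, LinearMap.sum_apply, map_sum]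
    exact Finset.sum_congr rfl fun i _ => key i _ (hf' i)
  intro j ψ hψ
  rw [← sub_eq_zero]
  refine hX.uniq (j + g) _ (sub_mem (hL j ψ hψ) ?_) fun r hr => ?_
  · rw [add_comm]
    exact hμ _ _ (hψ g c hc)
  · have hmem : r • ψ ∈ GrLC.homDeg 𝒜' 𝒞 𝒳' (-g) := fun d m hm => by
      rw [LinearMap.smul_apply, ← algebraMap_smul S r (ψ m)]
      have := smul_mem' 𝒜' 𝒳' (hf _ r hr) (hψ d m hm)
      rwa [show -(j + g) + (d + j) = d + -g by ring] at this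
    rw [smul_sub, ← map_smul, ← map_smul, ← (hlam _ hmem).2, ← hc' _ hmem, LinearMap.smul_apply, sub_self]

variable (𝒞) in
include 𝒞 hX' h0' hμ hμi in
/-- Evaluations separate points. -/
theorem eq_zero_of_eval {c : C} (h : ∀ ψ : C →ₗ[S] X', μ (ψ c) = 0) : c = 0 := by
  refine eq_zero_of_cp 𝒞 fun g => hX'.eval_inj h0' (cp_mem 𝒞 g c) fun ψ hψ => ?_
  have h1 : ψ (cp 𝒞 g c) = cp 𝒳' 0 (ψ c) := by
    have := cp_map_deg 𝒞 𝒳' ψ.toAddMonoidHom (-g) hψ g c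
    rw [add_neg_cancel] at this
    exact this.symm
  refine hμi _ (h1 ▸ cp_mem 𝒳' 0 _) ?_
  rw [h1]
  refine (cp_map 𝒳' 𝒳 μ.toAddMonoidHom hμ 0 (ψ c)).symm.trans ?_
  rw [show μ.toAddMonoidHom (ψ c) = μ (ψ c) from rfl, h ψ, map_zero]

include hX hX' h0' hf hf0 hμ hμ0 hμi in
/-- A module whose dual is `H` is the module of functionals on `H`. -/
theorem nonempty_equiv_homFun_of_dual [Module R C] [IsScalarTower R S C] {H : Type u} [AddCommGroup H] [Module R H]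
    {ℋ : ℤ → AddSubgroup H} (Φ : (C →ₗ[S] X') ≃ₗ[R] H)
    (hΦ : ∀ j, ∀ ψ ∈ GrLC.homDeg 𝒜' 𝒞 𝒳' j, Φ ψ ∈ ℋ j)
    (hΦ' : ∀ j, ∀ h ∈ ℋ j, Φ.symm h ∈ GrLC.homDeg 𝒜' 𝒞 𝒳' j) : Nonempty (C ≃ₗ[R] homFun R 𝒳 ℋ) := by
  classical
  let B : C →ₗ[R] H →ₗ[R] X :=
    LinearMap.mk₂ R (fun c h => μ (Φ.symm h c)) (fun a b h => by rw [map_add, map_add])
      (fun r c h => by rw [LinearMap.map_smul_of_tower, map_smul])
      (fun c a b => by rw [map_add, LinearMap.add_apply, map_add])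
      (fun r c h => by rw [map_smul, LinearMap.smul_apply, map_smul])
  have hhom : ∀ g, ∀ c ∈ 𝒞 g, GrLC.IsGrHomDeg ℋ 𝒳 (B c) g := fun g c hc j h hh => by
    rw [add_comm]
    exact hμ _ _ (hΦ' j h hh g c hc)
  refine nonempty_equiv_homFun B ?_ (fun c => ?_) fun g L hL => ?_
  · refine (injective_iff_map_eq_zero B).2 fun c hc => ?_
    refine eq_zero_of_eval 𝒞 (𝒜' := 𝒜') (𝒳' := 𝒳') (𝒳 := 𝒳) hX' h0' μ hμ hμi fun ψ => ?_
    have := LinearMap.congr_fun hc (Φ ψ)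
    simpa [B] using this
  · induction c using induction_on_hom 𝒞 with
    | h0 => rw [map_zero]; exact zero_mem _
    | ha a b ha hb => rw [map_add]; exact add_mem ha hb
    | hh g c hc => exact mem_homFun (hhom g c hc)
  · obtain ⟨c, -, hc⟩ := exists_eval_eq (𝒞 := 𝒞) hX hX' h0' hf hf0 μ hμ hμ0 hμi (L ∘ₗ Φ.toLinearMap)
      fun j ψ hψ => hL j _ (hΦ j ψ hψ)
    refine ⟨c, LinearMap.ext fun h => ?_⟩
    have := hc (Φ.symm h)
    simp only [LinearMap.comp_apply, LinearEquiv.coe_coe, LinearEquiv.apply_symm_apply] at this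
    exact this.symm

end Eval

end Groth.L04.Graded
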