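import Groth.Agent.L04.Graded.TopH
import Groth.Agent.L04.Graded.XDual

/-!
# Maps into the canonical module and functionals on the top local cohomology
-/

set_option autoImplicit false
set_option maxHeartbeats 1000000
universe u

open DirectSum Groth.L12.GrLCLib

noncomputable section

namespace Groth.L04.Graded

variable {R : Type u} [CommRing R] {𝒜 : ℤ → AddSubgroup R} [GradedRing 𝒜]
variable (a : HomogeneousIdeal 𝒜) (I : GrLC.StarInjRes 𝒜 𝒜)
variable {C : Type u} [AddCommGroup C] [Module R C] (𝒞 : ℤ → AddSubgroup C) [DirectSum.Decomposition 𝒞]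
  [SetLike.GradedSMul 𝒜 𝒞]
variable {X : Type u} [AddCommGroup X] [Module R X] (𝒳 : ℤ → AddSubgroup X) [DirectSum.Decomposition 𝒳]
  [SetLike.GradedSMul 𝒜 𝒳]

/-- A module whose dual is the top local cohomology of the ring. -/
structure CanDatum (n : ℕ) : Type u where
  hn : ringKrullDim R ≤ n
  h0 : IsField (GrLC.deg0 𝒜)
  hX : IsDual 𝒜 𝒳
  φ : (C →ₗ[R] X) ≃ₗ[R] I.H a n
  hφ : GrLC.IsGrHom (fun d => (GrLC.homDeg 𝒜 𝒞 𝒳 d).toAddSubgroup) (I.Hgr a n) φ.toLinearMap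

variable {a I 𝒞 𝒳}

theorem CanDatum.symm_mem [Module.Finite R C] {n : ℕ} (K : CanDatum a I 𝒞 𝒳 n) {j : ℤ} {v : I.H a n}
    (hv : v ∈ I.Hgr a n j) : K.φ.symm v ∈ GrLC.homDeg 𝒜 𝒞 𝒳 j := by
  letI := (Hgr_isInternal a I n).chooseDecomposition
  refine mem_homDeg_of_map K.φ K.hφ ?_
  rwa [K.φ.apply_symm_apply]

variable {M : Type u} [AddCommGroup M] [Module R M] {ℳ : ℤ → AddSubgroup M} [DirectSum.Decomposition ℳ]
  [SetLike.GradedSMul 𝒜 ℳ] (E : GrLC.StarInjRes 𝒜 ℳ)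

theorem psi_congr {d : ℤ} {x x' : M} (e : x = x') (hx : x ∈ ℳ d) (hx' : x' ∈ ℳ d) (i : ℕ) :
    psi a I E hx i = psi a I E hx' i := by
  subst e
  rfl

theorem psi_sum {t : ℕ} (deg : Fin t → ℤ) (x : Fin t → M) (hx : ∀ b, x b ∈ ℳ (deg b)) {d : ℤ} {z : M}
    (hz : z ∈ ℳ d) (y : Fin t → R) (hy : ∀ b, y b ∈ 𝒜 (d - deg b)) (he : ∑ b, y b • x b = z) (i : ℕ)
    (v : I.H a i) : psi a I E hz i v = ∑ b, psi a I E (hx b) i (y b • v) := by
  let g : (freeG 𝒜 deg).carrier →ₗ[R] M := Fintype.linearCombination R x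
  have hg : GrLC.IsGrHom (freeG 𝒜 deg).gr ℳ g := fun j w hw => by
    change ∑ b, w b • x b ∈ ℳ j
    refine sum_mem fun b _ => ?_
    have := smul_mem' 𝒜 ℳ (show w b ∈ 𝒜 (j - deg b) from hw b (Set.mem_univ b)) (hx b)
    rwa [sub_add_cancel] at this
  obtain ⟨F⟩ := nonempty_starInjRes 𝒜 (freeG 𝒜 deg).gr
  let y' : (freeG 𝒜 deg).carrier := y
  have hy' : y' ∈ (freeG 𝒜 deg).gr d := fun b _ => hy b
  have hgy : g y' = z := he
  have hgb : ∀ b, g (basisF 𝒜 deg b) = x b := fun b => by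
    change Fintype.linearCombination R x (Pi.single b 1) = x b
    rw [Fintype.linearCombination_apply_single, one_smul]
  calc psi a I E hz i v = psi a I E (hg d y' hy') i v := by rw [psi_congr E hgy.symm hz (hg d y' hy') i]
    _ = Hmor a F E g hg i (psi a I F hy' i v) := (psi_comp a I F E hg hy' i v).symm
    _ = ∑ b, psi a I E (hx b) i (y b • v) := by
      rw [← sum_psi_coord a I deg F i (psi a I F hy' i v), map_sum]
      refine Finset.sum_congr rfl fun b _ => ?_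
      rw [coord_psi, psi_comp a I F E hg (single_mem deg b) i, psi_congr E (hgb b) _ (hx b) i]
      rfl

variable [IsNoetherianRing R] [Module.Finite R C] [Module.Finite R M] {n : ℕ} (K : CanDatum a I 𝒞 𝒳 n)

omit [Module.Finite R C] in
include K in
/-- Functionals on the top cohomology are determined by the images of the cohomology of the ring. -/
theorem ext_psi {Y : Type u} [AddCommGroup Y] [Module R Y] {L L' : E.H a n →ₗ[R] Y}
    (h : ∀ (d : ℤ) (z : M) (hz : z ∈ ℳ d) (v : I.H a n), L (psi a I E hz n v) = L' (psi a I E hz n v)) :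
    L = L' := by
  obtain ⟨t, deg, x, hx, hsurj⟩ := exists_sum_psi a I K.hn E
  refine LinearMap.ext fun w => ?_
  obtain ⟨v, rfl⟩ := hsurj w
  simp only [map_sum]
  exact Finset.sum_congr rfl fun b _ => h _ _ (hx b) (v b)

/-- `Hom(M, C)` is the dual of the top local cohomology of `M`. -/
theorem exists_homDual :
    ∃ Λ : (M →ₗ[R] C) →ₗ[R] E.H a n →ₗ[R] X,
      (∀ (f : M →ₗ[R] C) (d : ℤ) (z : M) (hz : z ∈ ℳ d) (v : I.H a n),
        Λ f (psi a I E hz n v) = K.φ.symm v (f z)) ∧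
      Function.Injective Λ ∧ (∀ g f, GrLC.IsGrHomDeg ℳ 𝒞 f g → GrLC.IsGrHomDeg (E.Hgr a n) 𝒳 (Λ f) g) ∧
      (∀ g L, GrLC.IsGrHomDeg (E.Hgr a n) 𝒳 L g → ∃ f, Λ f = L) ∧ ∀ f, Λ f ∈ homFun R 𝒳 (E.Hgr a n) := by
  classical
  letI := (Hgr_isInternal a I n).chooseDecomposition
  letI := (Hgr_isInternal a E n).chooseDecomposition
  obtain ⟨t, deg, x, hx, hspan, hsurj, hrel, hker⟩ := exists_presentation a I K.hn E
  have hev : ∀ c : C, (∀ ψ : C →ₗ[R] X, ψ c = 0) → c = 0 := fun c hc =>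
    eq_zero_of_eval (R := R) (S := R) 𝒞 (𝒜' := 𝒜) (𝒳' := 𝒳) (𝒳 := 𝒳) K.hX K.h0 LinearMap.id (fun _ _ h => h)
      (fun _ _ h => h) hc
  let Ψ : (Fin t → I.H a n) →ₗ[R] E.H a n := ∑ b, psi a I E (hx b) n ∘ₗ LinearMap.proj b
  have hΨ : ∀ v, Ψ v = ∑ b, psi a I E (hx b) n (v b) := fun v => by simp [Ψ]
  have hΨs : Function.Surjective Ψ := fun w => by
    obtain ⟨v, hv⟩ := hsurj w
    exact ⟨v, (hΨ v).trans hv⟩
  have hex : ∀ f : M →ₗ[R] C, ∃ L : E.H a n →ₗ[R] X, ∀ v, L (Ψ v) = ∑ b, K.φ.symm (v b) (f (x b)) := fun f => by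
    let L₀ : (Fin t → I.H a n) →ₗ[R] X :=
      ∑ b, LinearMap.applyₗ (f (x b)) ∘ₗ K.φ.symm.toLinearMap ∘ₗ LinearMap.proj b
    have hL₀ : ∀ v, L₀ v = ∑ b, K.φ.symm (v b) (f (x b)) := fun v => by simp [L₀]
    have hle : LinearMap.ker Ψ ≤ LinearMap.ker L₀ := fun v hv => by
      refine (Submodule.span_le.2 ?_) (hker v ((hΨ v).symm.trans hv))
      rintro _ ⟨y, h, hy, rfl⟩
      change L₀ _ = 0
      rw [hL₀]
      simp only [map_smul, LinearMap.smul_apply]
      rw [show ∑ b, y b • (K.φ.symm h) (f (x b)) = K.φ.symm h (f (∑ b, y b • x b)) by simp [map_sum], hy, map_zero,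
        map_zero]
    refine ⟨(LinearMap.ker Ψ).liftQ L₀ hle ∘ₗ (Ψ.quotKerEquivOfSurjective hΨs).symm.toLinearMap, fun v => ?_⟩
    have h2 : (Ψ.quotKerEquivOfSurjective hΨs).symm (Ψ v) = Submodule.Quotient.mk v := by
      rw [LinearEquiv.symm_apply_eq]
      rfl
    rw [LinearMap.comp_apply, LinearEquiv.coe_coe, h2, Submodule.liftQ_apply, hL₀]
  choose Λf hΛf using hex
  have hdec : ∀ d, ∀ z ∈ ℳ d, ∃ y : Fin t → R, (∀ b, y b ∈ 𝒜 (d - deg b)) ∧ ∑ b, y b • x b = z := fun d z hz => by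
    obtain ⟨y, hy⟩ : ∃ y : Fin t → R, ∑ b, y b • x b = z :=
      (Submodule.mem_span_range_iff_exists_fun R).1 (hspan ▸ Submodule.mem_top)
    refine ⟨fun b => cp 𝒜 (d - deg b) (y b), fun b => cp_mem 𝒜 _ _, ?_⟩
    conv_rhs => rw [← cp_same ℳ hz, ← hy, map_sum]
    exact Finset.sum_congr rfl fun b _ => (cp_smul_mem 𝒜 ℳ (y b) (hx b) d).symm
  have hspec : ∀ (f : M →ₗ[R] C) (d : ℤ) (z : M) (hz : z ∈ ℳ d) (v : I.H a n),
      Λf f (psi a I E hz n v) = K.φ.symm v (f z) := fun f d z hz v => by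
    obtain ⟨y, hy, he⟩ := hdec d z hz
    rw [psi_sum E deg x hx hz y hy he n v, ← hΨ fun b => y b • v, hΛf, ← he, map_sum, map_sum]
    exact Finset.sum_congr rfl fun b _ => by rw [map_smul, LinearMap.smul_apply, map_smul, map_smul]
  let Λ : (M →ₗ[R] C) →ₗ[R] E.H a n →ₗ[R] X :=
    { toFun := Λf
      map_add' := fun p q => ext_psi E K fun d z hz v => by simp [hspec]
      map_smul' := fun r p => ext_psi E K fun d z hz v => by simp [hspec] }
  have hdeg : ∀ g f, GrLC.IsGrHomDeg ℳ 𝒞 f g → GrLC.IsGrHomDeg (E.Hgr a n) 𝒳 (Λ f) g := fun g f hf j w hw => by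
    obtain ⟨v, rfl⟩ := hΨs w
    have h1 : Ψ v = Ψ fun b => cp (I.Hgr a n) (j - deg b) (v b) := by
      rw [hΨ fun b => cp (I.Hgr a n) (j - deg b) (v b)]
      conv_lhs => rw [← cp_same (E.Hgr a n) hw, hΨ, map_sum]
      refine Finset.sum_congr rfl fun b _ => ?_
      have := cp_map_deg (I.Hgr a n) (E.Hgr a n) (psi a I E (hx b) n).toAddMonoidHom (deg b)
        (fun g v hv => psi_mem a I E (hx b) n hv) (j - deg b) (v b)
      rw [sub_add_cancel] at this
      exact this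
    change Λf f (Ψ v) ∈ 𝒳 (j + g)
    rw [h1, hΛf]
    refine sum_mem fun b _ => ?_
    have h := K.symm_mem (cp_mem (I.Hgr a n) (j - deg b) (v b)) _ _ (hf _ _ (hx b))
    rwa [show deg b + g + (j - deg b) = j + g by ring] at h
  refine ⟨Λ, hspec, (injective_iff_map_eq_zero Λ).2 fun f hf => LinearMap.ext_on_range hspan fun b => hev _ fun ψ => ?_,
    hdeg, fun g L hL => ?_, fun f => ?_⟩
  · have := hspec f _ _ (hx b) (K.φ ψ)
    rw [show Λf f = Λ f from rfl, hf, LinearMap.zero_apply, K.φ.symm_apply_apply] at this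
    exact this.symm
  · have hc : ∀ b, ∃ c ∈ 𝒞 (deg b + g), ∀ ψ : C →ₗ[R] X, L (psi a I E (hx b) n (K.φ ψ)) = ψ c := fun b =>
      exists_eval_eq (S := R) (𝒞 := 𝒞) K.hX K.hX K.h0 (fun _ r hr => hr) (fun s hs => ⟨s, hs, rfl⟩) LinearMap.id
        (fun _ _ h => h) (fun y hy => ⟨y, hy, rfl⟩) (fun _ _ h => h) (L ∘ₗ psi a I E (hx b) n ∘ₗ K.φ.toLinearMap)
        fun j ψ hψ => by
          have h := hL _ _ (psi_mem a I E (hx b) n (K.hφ j ψ hψ))
          rwa [add_assoc] at h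
    choose c _ hc' using hc
    let P : (Fin t → R) →ₗ[R] M := Fintype.linearCombination R x
    let Q : (Fin t → R) →ₗ[R] C := Fintype.linearCombination R c
    have hP : Function.Surjective P := by
      rw [← LinearMap.range_eq_top, Fintype.range_linearCombination, hspan]
    have hle : LinearMap.ker P ≤ LinearMap.ker Q := fun y hy => by
      have hy' : ∑ b, y b • x b = 0 := hy
      refine LinearMap.mem_ker.2 (hev _ fun ψ => ?_)
      change ψ (∑ b, y b • c b) = 0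
      simp only [map_sum, map_smul]
      rw [← map_zero L, ← hrel y hy' (K.φ ψ), map_sum]
      exact Finset.sum_congr rfl fun b _ => by rw [← hc', map_smul, map_smul]
    let f : M →ₗ[R] C := (LinearMap.ker P).liftQ Q hle ∘ₗ (P.quotKerEquivOfSurjective hP).symm.toLinearMap
    have hfx : ∀ b, f (x b) = c b := fun b => by
      have hb : P (Pi.single b 1) = x b := by simp [P, Fintype.linearCombination_apply_single]
      have h2 : (P.quotKerEquivOfSurjective hP).symm (x b) = Submodule.Quotient.mk (Pi.single b 1) := by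
        rw [LinearEquiv.symm_apply_eq]
        exact hb.symm
      simp only [f, LinearMap.comp_apply, LinearEquiv.coe_coe, h2, Submodule.liftQ_apply]
      simp [Q, Fintype.linearCombination_apply_single]
    refine ⟨f, LinearMap.ext fun w => ?_⟩
    obtain ⟨v, rfl⟩ := hΨs w
    change Λf f (Ψ v) = _
    rw [hΛf, hΨ, map_sum]
    refine Finset.sum_congr rfl fun b _ => ?_
    rw [hfx, ← hc' b, K.φ.apply_symm_apply]
  · obtain ⟨S, fd, hfd, rfl⟩ := exists_hom_decomp 𝒜 ℳ 𝒞 f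
    rw [map_sum]
    exact sum_mem fun g _ => mem_homFun (hdeg g _ (hfd g))

end Groth.L04.Graded
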