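import Groth.Agent.L04.Graded.Pieces
import Groth.Agent.L04.Torsion
import Groth.Agent.L12.GrLCDual
import Groth.Agent.L12.GrLCAsub
import Mathlib.LinearAlgebra.Dual.Lemmas

/-!
# Graded duals over a positively graded algebra over a field
-/

set_option autoImplicit false
universe u

open DirectSum Groth.L12.GrLCLib

noncomputable section

namespace Groth.L04.Graded

variable {k : Type u} [Field k] {R : Type u} [CommRing R] [Algebra k R] {𝒜 : ℤ → Submodule k R} [GradedAlgebra 𝒜]
variable {M : Type u} [AddCommGroup M] [Module R M] [Module k M] [IsScalarTower k R M]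
  {ℳ : ℤ → AddSubgroup M} [DirectSum.Decomposition ℳ] [SetLike.GradedSMul 𝒜 ℳ]
variable {D : Type u} [AddCommGroup D] [Module R D] [Module k D] [IsScalarTower k R D]
  {𝒟 : ℤ → AddSubgroup D} [DirectSum.Decomposition 𝒟] [SetLike.GradedSMul 𝒜 𝒟]
variable {β : D →ₗ[k] M →ₗ[k] k} (hD : GrSeg.IsGDual R ℳ 𝒟 β)

include hD

theorem pair_cp (n : ℤ) (d : D) (x : M) : β (cp 𝒟 n d) x = β d (cp ℳ (-n) x) := by
  induction d using induction_on_hom 𝒟 with
  | h0 => simp
  | ha a b ha hb => simp only [map_add, LinearMap.add_apply, ha, hb]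
  | hh m d hd =>
    induction x using induction_on_hom ℳ with
    | h0 => simp
    | ha a b ha hb => simp only [map_add, ha, hb]
    | hh j x hx =>
      rcases eq_or_ne m n with rfl | hmn
      · rw [cp_same 𝒟 hd]
        rcases eq_or_ne j (-m) with rfl | hj
        · rw [cp_same ℳ hx]
        · rw [cp_ne ℳ hx hj, map_zero, hD.vanish m d hd j hj x hx]
      · rw [cp_ne 𝒟 hd hmn, map_zero, LinearMap.zero_apply]
        rcases eq_or_ne j (-n) with rfl | hj
        · rw [cp_same ℳ hx, hD.vanish m d hd (-n) (fun h => hmn (neg_inj.1 h).symm) x hx]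
        · rw [cp_ne ℳ hx hj, map_zero]

theorem pair_cp' (n : ℤ) {d : D} (hd : d ∈ 𝒟 n) (x : M) : β d x = β d (cp ℳ (-n) x) := by
  rw [← pair_cp hD, cp_same 𝒟 hd]

theorem pair_injective {d d' : D} (h : ∀ x, β d x = β d' x) : d = d' := by
  rw [← sub_eq_zero]
  refine eq_zero_of_cp 𝒟 fun n => hD.eq_zero n _ (cp_mem 𝒟 n _) fun x hx => ?_
  rw [pair_cp hD, map_sub, LinearMap.sub_apply, h, sub_self]

/-- If the pieces are finite-dimensional, the module is the graded dual of its dual. -/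
theorem flip_gdual (hfin : ∀ g, Module.Finite k (piece 𝒜 ℳ g)) : GrSeg.IsGDual R 𝒟 ℳ β.flip where
  map_smul r x d := by
    simp only [LinearMap.flip_apply]
    exact (hD.map_smul r d x).symm
  vanish n x hx m hm d hd := by
    simp only [LinearMap.flip_apply]
    exact hD.vanish m d hd n (by omega) x hx
  eq_zero n x hx h := by
    by_contra hx0
    obtain ⟨φ, hφ⟩ : ∃ φ : M →ₗ[k] k, φ x ≠ 0 := by
      by_contra! h'
      exact hx0 ((Module.forall_dual_apply_eq_zero_iff k x).1 h')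
    obtain ⟨d, hd, hdφ⟩ := hD.exists_eq (-n) φ
    refine hφ ?_
    rw [← hdφ x (by rwa [neg_neg])]
    simpa using h d hd
  exists_eq n g := by
    haveI := hfin n
    let T : piece 𝒜 𝒟 (-n) →ₗ[k] Module.Dual k (piece 𝒜 ℳ n) :=
      ((LinearMap.lcomp k k (piece 𝒜 ℳ n).subtype).comp β).comp (piece 𝒜 𝒟 (-n)).subtype
    have hT : Function.Bijective T := by
      refine ⟨(injective_iff_map_eq_zero T).2 fun d hd => Subtype.ext ?_, fun φ => ?_⟩
      · refine hD.eq_zero (-n) d.1 d.2 fun x hx => ?_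
        rw [neg_neg] at hx
        exact LinearMap.congr_fun hd ⟨x, hx⟩
      · obtain ⟨φ', hφ'⟩ := LinearMap.exists_extend φ
        obtain ⟨d, hd, hdφ⟩ := hD.exists_eq (-n) φ'
        refine ⟨⟨d, hd⟩, LinearMap.ext fun x => ?_⟩
        rw [← hφ']
        exact hdφ x.1 (by rw [neg_neg]; exact x.2)
    let eT := LinearEquiv.ofBijective T hT
    obtain ⟨x, hx⟩ := (Module.evalEquiv k (piece 𝒜 ℳ n)).surjective
      ((g.comp (piece 𝒜 𝒟 (-n)).subtype).comp eT.symm.toLinearMap)
    refine ⟨x.1, x.2, fun d hd => ?_⟩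
    have h := LinearMap.congr_fun hx (eT ⟨d, hd⟩)
    simp only [LinearMap.comp_apply, LinearEquiv.coe_coe, LinearEquiv.symm_apply_apply] at h
    exact h

omit hD

/-- Dual maps exist and are unique. -/
theorem exists_dualMap {F : Type u} [AddCommGroup F] [Module R F] [Module k F] [IsScalarTower k R F]
    {ℱ : ℤ → AddSubgroup F} [DirectSum.Decomposition ℱ] [SetLike.GradedSMul 𝒜 ℱ]
    {E : Type u} [AddCommGroup E] [Module R E] [Module k E] [IsScalarTower k R E]
    {ℰ : ℤ → AddSubgroup E} [DirectSum.Decomposition ℰ] [SetLike.GradedSMul 𝒜 ℰ]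
    {γ : E →ₗ[k] F →ₗ[k] k} (hD : GrSeg.IsGDual R ℳ 𝒟 β) (hE : GrSeg.IsGDual R ℱ ℰ γ)
    (f : F →ₗ[R] M) (hf : GrLC.IsGrHom ℱ ℳ f) :
    ∃ g : D →ₗ[R] E, GrLC.IsGrHom 𝒟 ℰ g ∧ GrSeg.IsGDualMap β γ f g := by
  have hex : ∀ d : D, ∃ e : E, ∀ x, γ e x = β d (f x) := fun d => by
    induction d using induction_on_hom 𝒟 with
    | h0 => exact ⟨0, by simp⟩
    | ha a b ha hb =>
      obtain ⟨e, he⟩ := ha
      obtain ⟨e', he'⟩ := hb
      exact ⟨e + e', fun x => by simp [he, he']⟩
    | hh n d hd =>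
      obtain ⟨e, he, he'⟩ := hE.exists_eq n ((β d).comp (f.restrictScalars k))
      refine ⟨e, fun x => ?_⟩
      rw [pair_cp' hE n he, he' _ (cp_mem ℱ _ x), pair_cp' hD n hd (f x)]
      exact congrArg (β d) (cp_map ℱ ℳ f.toAddMonoidHom hf (-n) x).symm
  choose v hv using hex
  let g : D →ₗ[R] E :=
    { toFun := v
      map_add' := fun a b => pair_injective hE fun x => by simp [hv]
      map_smul' := fun r d => pair_injective hE fun x => by
        rw [RingHom.id_apply, hv, hE.map_smul, hv, hD.map_smul, f.map_smul] }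
  refine ⟨g, fun n d hd => ?_, hv⟩
  obtain ⟨e, he, he'⟩ := hE.exists_eq n ((β d).comp (f.restrictScalars k))
  convert he using 1
  refine pair_injective hE fun x => ?_
  change γ (v d) x = γ e x
  rw [hv, pair_cp' hE n he, he' _ (cp_mem ℱ _ x), pair_cp' hD n hd (f x)]
  exact congrArg (β d) (cp_map ℱ ℳ f.toAddMonoidHom hf (-n) x)

theorem dualMap_unique {F : Type u} [AddCommGroup F] [Module R F] [Module k F] [IsScalarTower k R F]
    {E : Type u} [AddCommGroup E] [Module R E] [Module k E] [IsScalarTower k R E]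
    {ℰ : ℤ → AddSubgroup E} [DirectSum.Decomposition ℰ] {ℱ : ℤ → AddSubgroup F} [DirectSum.Decomposition ℱ]
    {γ : E →ₗ[k] F →ₗ[k] k} (hE : GrSeg.IsGDual R ℱ ℰ γ)
    {f : F →ₗ[R] M} {g g' : D →ₗ[R] E} (h : GrSeg.IsGDualMap β γ f g) (h' : GrSeg.IsGDualMap β γ f g') : g = g' :=
  LinearMap.ext fun d => pair_injective hE fun x => (h d x).trans (h' d x).symm

end Groth.L04.Graded
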