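import Groth.Agent.L04.Graded.Matlis

/-!
# Graded artinian modules and their duals; the graded hull of the residue field
-/

set_option autoImplicit false
universe u

open DirectSum Groth.L12.GrLCLib
open scoped Groth.L12.GrLCLib.Asub

noncomputable section

namespace Groth.L04.Graded

variable {k : Type u} [Field k] {R : Type u} [CommRing R] [Algebra k R] {𝒜 : ℤ → Submodule k R} [GradedAlgebra 𝒜]
  {mR : HomogeneousIdeal 𝒜}
variable {M : Type u} [AddCommGroup M] [Module R M] [Module k M] [IsScalarTower k R M]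
  {ℳ : ℤ → AddSubgroup M} [DirectSum.Decomposition ℳ] [SetLike.GradedSMul 𝒜 ℳ]
variable {D : Type u} [AddCommGroup D] [Module R D] [Module k D] [IsScalarTower k R D]
  {𝒟 : ℤ → AddSubgroup D} [DirectSum.Decomposition 𝒟] [SetLike.GradedSMul 𝒜 𝒟]
variable {β : D →ₗ[k] M →ₗ[k] k}

theorem finite_piece_of_isArtinian (h0R : 𝒜 0 = Submodule.span k {(1 : R)}) [IsArtinian R M] (g : ℤ) :
    Module.Finite k (piece 𝒜 ℳ g) := by
  let sp : Submodule k (piece 𝒜 ℳ g) → Submodule R M := fun W => Submodule.span R ((↑) '' (W : Set (piece 𝒜 ℳ g)))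
  have key : ∀ W : Submodule k (piece 𝒜 ℳ g), ∀ x : piece 𝒜 ℳ g, x.1 ∈ sp W → x ∈ W := fun W x hx => by
    suffices h : ∀ y ∈ sp W, ∃ w ∈ W, cp ℳ g y = w.1 by
      obtain ⟨w, hw, hw'⟩ := h _ hx
      rw [cp_same ℳ x.2] at hw'
      rwa [Subtype.ext hw']
    intro y hy
    induction hy using Submodule.span_induction with
    | mem z hz =>
      obtain ⟨w, hw, rfl⟩ := hz
      exact ⟨w, hw, cp_same ℳ w.2⟩
    | zero => exact ⟨0, W.zero_mem, map_zero _⟩
    | add a b _ _ ha hb =>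
      obtain ⟨w, hw, hw'⟩ := ha
      obtain ⟨v, hv, hv'⟩ := hb
      exact ⟨w + v, W.add_mem hw hv, by rw [map_add, hw', hv']; rfl⟩
    | smul r z hz hz' =>
      clear hz'
      induction hz using Submodule.span_induction generalizing r with
      | mem z hz =>
        obtain ⟨w, hw, rfl⟩ := hz
        rw [cp_smul_mem 𝒜 ℳ r w.2, sub_self]
        obtain ⟨c, hc⟩ := Submodule.mem_span_singleton.1 (h0R.le (cp_mem 𝒜 0 r))
        exact ⟨c • w, W.smul_mem c hw, by rw [← hc, smul_one_smul]; rfl⟩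
      | zero => exact ⟨0, W.zero_mem, by rw [smul_zero, map_zero]; rfl⟩
      | add a b _ _ ha hb =>
        obtain ⟨w, hw, hw'⟩ := ha r
        obtain ⟨v, hv, hv'⟩ := hb r
        exact ⟨w + v, W.add_mem hw hv, by rw [smul_add, map_add, hw', hv']; rfl⟩
      | smul a y _ hy =>
        rw [smul_smul]
        exact hy _
  have hmono : StrictMono sp := fun W W' h => by
    refine lt_of_le_of_ne (Submodule.span_mono (Set.image_mono h.le)) fun he => h.not_ge fun x hx => key W x ?_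
    rw [he]
    exact Submodule.subset_span ⟨x, hx, rfl⟩
  haveI : IsArtinian k (piece 𝒜 ℳ g) := ⟨hmono.wellFoundedLT.wf⟩
  exact (IsArtinianRing.tfae k (piece 𝒜 ℳ g)).out (n₁ := 2) (n₂ := 0) (a := IsArtinian k (piece 𝒜 ℳ g)) (b := Module.Finite k (piece 𝒜 ℳ g)) |>.1 ‹_›

variable [Algebra.FiniteType k R] (hD : GrSeg.IsGDual R ℳ 𝒟 β)
include hD

/-- The graded dual of an artinian graded module is finitely generated. -/
theorem finite_dual_of_isArtinian (h0R : 𝒜 0 = Submodule.span k {(1 : R)}) [IsArtinian R M] :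
    Module.Finite R D := by
  classical
  let perp : Finset D → Submodule R M := fun s =>
    { carrier := {x | ∀ d ∈ Submodule.span R (s : Set D), β d x = 0}
      zero_mem' := fun d _ => map_zero _
      add_mem' := fun {a b} ha hb d hd => by rw [map_add, ha d hd, hb d hd, add_zero]
      smul_mem' := fun r x hx d hd => by rw [← hD.map_smul]; exact hx _ (Submodule.smul_mem _ r hd) }
  let S := {P : Submodule R M | ∃ s : Finset D, (∀ d ∈ s, ∃ n, d ∈ 𝒟 n) ∧ perp s = P}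
  obtain ⟨P, ⟨s, hs, rfl⟩, hmin⟩ := IsArtinian.set_has_minimal S ⟨_, ∅, by simp, rfl⟩
  refine ⟨⟨s, eq_top_iff.2 fun d hd' => ?_⟩⟩
  clear hd'
  induction d using induction_on_hom 𝒟 with
  | h0 => exact zero_mem _
  | ha a b ha hb => exact add_mem ha hb
  | hh n d hd =>
    by_contra hns
    let P : Submodule R D := Submodule.span R (s : Set D)
    have hP : P.IsHomogeneous 𝒟 := Groth.L12.GrLCLib.span_isHomogeneous 𝒜 𝒟 hs
    obtain ⟨φ, hφ, hle⟩ := Submodule.exists_le_ker_of_notMem (p := P.restrictScalars k) hns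
    obtain ⟨x, hx, hxφ⟩ := (flip_gdual hD (finite_piece_of_isArtinian (ℳ := ℳ) h0R)).exists_eq (-n) φ
    have hxP : x ∈ perp s := fun p hp => by
      rw [← cp_same ℳ hx, ← pair_cp hD]
      have h := hxφ (cp 𝒟 n p) (by rw [neg_neg]; exact cp_mem 𝒟 n p)
      rw [LinearMap.flip_apply] at h
      rw [h]
      exact hle (hP n hp)
    have hsub : perp (insert d s) ≤ perp s := fun y hy p hp =>
      hy p (Submodule.span_mono (by simp) hp)
    have heq : perp (insert d s) = perp s := eq_of_le_of_not_lt hsub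
      (hmin _ ⟨insert d s, fun p hp => (Finset.mem_insert.1 hp).elim (fun h => ⟨n, h ▸ hd⟩) (hs p), rfl⟩)
    have h0 : β d x = 0 := (heq ▸ hxP : x ∈ perp (insert d s)) d (Submodule.subset_span (by simp))
    have h1 := hxφ d (by rw [neg_neg]; exact hd)
    rw [LinearMap.flip_apply, h0] at h1
    exact hφ h1.symm

omit hD

/-- Artinian graded modules embed in finite sums of shifts of the dual of the ring. -/
theorem exists_embedding {β : D →ₗ[k] R →ₗ[k] k} (hD : GrSeg.IsGDual R 𝒜 𝒟 β) [IsArtinian R M] :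
    ∃ (t : ℕ) (sh : Fin t → ℤ) (f : M →ₗ[R] (Fin t → D)), Function.Injective f ∧
      ∀ (i : Fin t) (g : ℤ) (x : M), x ∈ ℳ g → f x i ∈ 𝒟 (g + sh i) := by
  classical
  have hDu : GrSeg.IsGDual R (asub 𝒜) 𝒟 β :=
    { map_smul := hD.map_smul, vanish := hD.vanish, eq_zero := hD.eq_zero, exists_eq := hD.exists_eq }
  have hex : ∀ (j : ℤ) (μ : M →ₗ[k] k) (x : M), ∃ d : D, ∀ c : R, β d c = μ (cp ℳ j (c • x)) := fun j μ x => by
    induction x using induction_on_hom ℳ with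
    | h0 => exact ⟨0, fun c => by simp⟩
    | ha a b ha hb =>
      obtain ⟨d, hd⟩ := ha
      obtain ⟨d', hd'⟩ := hb
      exact ⟨d + d', fun c => by simp [hd, hd']⟩
    | hh g y hy =>
      obtain ⟨d, hd, hd'⟩ := hD.exists_eq (g - j) ((μ.comp (cpL 𝒜 ℳ j)).comp ((LinearMap.toSpanSingleton R M y).restrictScalars k))
      refine ⟨d, fun c => ?_⟩
      induction c using induction_on_hom 𝒜 with
      | h0 => simp
      | ha a b ha hb => simp only [map_add, add_smul, ha, hb]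
      | hh e c hc =>
        rcases eq_or_ne e (-(g - j)) with rfl | he
        · exact hd' c hc
        · rw [hD.vanish _ d hd e he c hc, cp_ne ℳ (smul_mem' 𝒜 ℳ hc hy) (by omega), map_zero]
  choose v hv using hex
  let Ψ : (ℤ × (M →ₗ[k] k)) → (M →ₗ[R] D) := fun p =>
    { toFun := v p.1 p.2
      map_add' := fun a b => sub_eq_zero.1 (eq_zero_of_cp 𝒟 fun n => hD.eq_zero n _ (cp_mem 𝒟 n _) fun c hc => by
        rw [pair_cp hDu, map_sub, map_add, LinearMap.sub_apply, LinearMap.add_apply, hv, hv, hv]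
        simp)
      map_smul' := fun r a => sub_eq_zero.1 (eq_zero_of_cp 𝒟 fun n => hD.eq_zero n _ (cp_mem 𝒟 n _) fun c hc => by
        rw [pair_cp hDu, map_sub, RingHom.id_apply, LinearMap.sub_apply, hv, hD.map_smul, hv, smul_smul, smul_eq_mul,
          mul_comm r, sub_self]) }
  have hdeg : ∀ (p : ℤ × (M →ₗ[k] k)) (g : ℤ) (x : M), x ∈ ℳ g → Ψ p x ∈ 𝒟 (g - p.1) := fun p g x hx => by
    rw [mem_iff_cp 𝒟]
    refine sub_eq_zero.1 (eq_zero_of_cp 𝒟 fun n => hD.eq_zero n _ (cp_mem 𝒟 n _) fun c hc => ?_)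
    rw [pair_cp hDu, map_sub, LinearMap.sub_apply, pair_cp hDu, sub_eq_zero]
    change β (v p.1 p.2 x) _ = β (v p.1 p.2 x) _
    rw [hv, hv, Asub.cp_asub, Asub.cp_asub, cp_smul_mem 𝒜 ℳ _ hx, cp_smul_mem 𝒜 ℳ _ hx]
    rcases eq_or_ne (-(g - p.1)) (p.1 - g) with h | h
    · rw [h, cp_same 𝒜 (cp_mem 𝒜 (p.1 - g) _)]
    · omega
  let kerI : Finset (ℤ × (M →ₗ[k] k)) → Submodule R M := fun s => s.inf fun p => LinearMap.ker (Ψ p)
  obtain ⟨P, ⟨s, rfl⟩, hmin⟩ := IsArtinian.set_has_minimal (Set.range kerI) ⟨_, ∅, rfl⟩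
  have hbot : kerI s = ⊥ := by
    rw [Submodule.eq_bot_iff]
    intro x hx
    refine eq_zero_of_cp ℳ fun j => ?_
    by_contra h
    obtain ⟨μ, hμ⟩ : ∃ μ : M →ₗ[k] k, μ (cp ℳ j x) ≠ 0 := by
      by_contra! h'
      exact h ((Module.forall_dual_apply_eq_zero_iff k _).1 h')
    have heq : kerI (insert (j, μ) s) = kerI s := eq_of_le_of_not_lt
      (Finset.inf_mono (Finset.subset_insert _ _)) (hmin _ ⟨_, rfl⟩)
    have hx' : x ∈ LinearMap.ker (Ψ (j, μ)) := (Finset.inf_le (f := fun p => LinearMap.ker (Ψ p))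
      (Finset.mem_insert_self _ _)) (heq ▸ hx)
    refine hμ ?_
    have h1 : β (Ψ (j, μ) x) 1 = 0 := by rw [LinearMap.mem_ker.1 hx', map_zero, LinearMap.zero_apply]
    change β (v j μ x) 1 = 0 at h1
    rwa [hv, one_smul] at h1
  let e := s.equivFin.symm
  refine ⟨s.card, fun i => -(e i).1.1, LinearMap.pi fun i => Ψ (e i).1, ?_, fun i g x hx => ?_⟩
  · refine (injective_iff_map_eq_zero _).2 fun x hx => ?_
    rw [← Submodule.mem_bot R, ← hbot, Submodule.mem_finsetInf]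
    intro p hp
    obtain ⟨i, hi⟩ := e.surjective ⟨p, hp⟩
    have := congrFun hx i
    simpa [hi] using this
  · rw [← sub_eq_add_neg]
    exact hdeg _ g x hx

/-- The graded dual of the ring is the graded hull of the residue field. -/
theorem isStarInjHull_dual (hposR : ∀ n : ℤ, n < 0 → 𝒜 n = ⊥) (h0R : 𝒜 0 = Submodule.span k {(1 : R)})
    (hmR : mR.toIdeal = Ideal.span (⋃ n ∈ Set.Ioi (0 : ℤ), (𝒜 n : Set R))) [Nontrivial R]
    {β : D →ₗ[k] R →ₗ[k] k} (hD : GrSeg.IsGDual R 𝒜 𝒟 β)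
    (e : (R ⧸ mR.toIdeal) →ₗ[R] D) (he : Function.Injective e) (hegr : GrLC.IsGrHom (GrLC.quotGr 𝒜 mR) 𝒟 e) :
    GrLC.IsStarInjHull 𝒜 (GrLC.quotGr 𝒜 mR) 𝒟 e := by
  obtain ⟨φ₀, hφ₀⟩ : ∃ φ : R →ₗ[k] k, φ 1 = 1 := by
    obtain ⟨φ, hφ⟩ : ∃ φ : R →ₗ[k] k, φ 1 ≠ 0 := by
      by_contra! h
      exact one_ne_zero ((Module.forall_dual_apply_eq_zero_iff k (1 : R)).1 h)
    exact ⟨(φ 1)⁻¹ • φ, by rw [LinearMap.smul_apply, smul_eq_mul, inv_mul_cancel₀ hφ]⟩
  have h01 : (1 : R) ∈ 𝒜 (-0) := by rw [neg_zero]; exact SetLike.one_mem_graded 𝒜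
  have hval : ∀ y : D, y ∈ 𝒟 0 → β y 1 = 0 → y = 0 := fun y hy h =>
    hD.eq_zero 0 y hy fun c hc => by
      obtain ⟨a, rfl⟩ := Submodule.mem_span_singleton.1 (h0R.le (by rwa [neg_zero] at hc : c ∈ 𝒜 0))
      rw [map_smul, h, smul_zero]
  have huniq : ∀ (g : ℤ) (x : D), x ∈ 𝒟 g → (∀ c ∈ 𝒜 (-g), c • x = 0) → x = 0 := fun g x hx h =>
    hD.eq_zero g x hx fun c hc => by
      have h1 := hD.map_smul c x 1
      rw [h c hc, map_zero, LinearMap.zero_apply, smul_eq_mul, mul_one] at h1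
      exact h1.symm
  haveI : SetLike.GradedSMul (asub 𝒜) 𝒟 :=
    ⟨fun {_ _ _ _} hr hx => SetLike.GradedSMul.smul_mem (A := 𝒜) (B := 𝒟) hr hx⟩
  have hdual : IsDual (asub 𝒜) 𝒟 :=
    { uniq := huniq
      line := by
        obtain ⟨u, hu, hu'⟩ := hD.exists_eq 0 φ₀
        have hu1 : β u 1 = 1 := (hu' 1 h01).trans hφ₀
        refine ⟨u, hu, fun h => ?_, fun y hy => ⟨algebraMap k R (β y 1), SetLike.algebraMap_mem_graded 𝒜 _, ?_⟩⟩
        · rw [h, map_zero, LinearMap.zero_apply] at hu1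
          exact zero_ne_one hu1
        · rw [IsScalarTower.algebraMap_smul]
          refine sub_eq_zero.1 (hval _ (sub_mem (smul_mem_piece 𝒜 _ hu) hy) ?_)
          rw [map_sub, map_smul, LinearMap.sub_apply, LinearMap.smul_apply, hu1, smul_eq_mul, mul_one, sub_self]
      exist := fun g lam hlam hadd hsm => by
        let P := 𝒜 (-g)
        let ψ : P →ₗ[k] k :=
          { toFun := fun c => β (lam c.1) 1
            map_add' := fun a b => by rw [Submodule.coe_add, hadd _ a.2 _ b.2, map_add, LinearMap.add_apply]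
            map_smul' := fun a c => by
              have h := hsm (algebraMap k R a) (SetLike.algebraMap_mem_graded 𝒜 a) c.1 c.2
              rw [← Algebra.smul_def, IsScalarTower.algebraMap_smul] at h
              rw [RingHom.id_apply, Submodule.coe_smul, h, map_smul, LinearMap.smul_apply] }
        obtain ⟨ψ', hψ'⟩ := LinearMap.exists_extend ψ
        obtain ⟨x, hx, hx'⟩ := hD.exists_eq g ψ'
        refine ⟨x, hx, fun c hc => sub_eq_zero.1 (hval _ (sub_mem ?_ (hlam c hc)) ?_)⟩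
        · have := smul_mem' 𝒜 𝒟 (show c ∈ 𝒜 (-g) from hc) hx
          rwa [neg_add_cancel] at this
        · rw [map_sub, LinearMap.sub_apply, hD.map_smul, smul_eq_mul, mul_one, hx' c hc,
            show ψ' c = β (lam c) 1 from LinearMap.congr_fun hψ' ⟨c, hc⟩, sub_self] }
  have hfield : IsField (GrLC.deg0 (asub 𝒜)) :=
    MulEquiv.isField (Field.toIsField k)
      (RingEquiv.ofBijective _ (Groth.L12.GrSegLib.toDeg0_bijective (𝒜 := 𝒜) h0R)).symm.toMulEquiv
  have hinj' := hdual.starInj hfield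
  refine ⟨⟨he, hegr, fun P hP hne => ?_⟩,
    fun A B f hf hinj g hg => hinj' (Asub.up A) (Asub.up B) f hf hinj g hg⟩
  obtain ⟨z, hz, hz0⟩ := Submodule.exists_mem_ne_zero_of_ne_bot hne
  obtain ⟨n, hn⟩ : ∃ n, cp 𝒟 n z ≠ 0 := by
    by_contra! h
    exact hz0 (eq_zero_of_cp 𝒟 h)
  obtain ⟨c, hc, hcd⟩ : ∃ c ∈ 𝒜 (-n), c • cp 𝒟 n z ≠ 0 := by
    by_contra! h
    exact hn (huniq n _ (cp_mem 𝒟 n z) h)
  have hy0 : c • cp 𝒟 n z ∈ 𝒟 0 := by
    have := smul_mem' 𝒜 𝒟 hc (cp_mem 𝒟 n z); rwa [neg_add_cancel] at this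
  have hm1 : (1 : R) ∉ mR.toIdeal := fun h => by
    have h' := pow_le_filt (hposR := hposR) hmR 1 ((pow_one mR.toIdeal).symm ▸ h) 0 (by norm_num)
    rw [cp_same 𝒜 (SetLike.one_mem_graded 𝒜)] at h'
    exact one_ne_zero h'
  let u := e (Ideal.Quotient.mk mR.toIdeal 1)
  have hu : u ∈ 𝒟 0 := hegr 0 _ ⟨1, SetLike.one_mem_graded 𝒜, rfl⟩
  have hu1 : β u 1 ≠ 0 := fun h => hm1 (Ideal.Quotient.eq_zero_iff_mem.1 (he (by rw [map_zero]; exact hval _ hu h)))
  refine (Submodule.ne_bot_iff _).2 ⟨_, ⟨P.smul_mem c (hP n hz), ?_⟩, hcd⟩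
  refine ⟨algebraMap k R (β (c • cp 𝒟 n z) 1 / β u 1) • Ideal.Quotient.mk mR.toIdeal 1, ?_⟩
  rw [map_smul, IsScalarTower.algebraMap_smul]
  refine sub_eq_zero.1 (hval _ (sub_mem (smul_mem_piece 𝒜 _ hu) hy0) ?_)
  rw [map_sub, map_smul, LinearMap.sub_apply, LinearMap.smul_apply, smul_eq_mul, div_mul_cancel₀ _ hu1]
  exact sub_self _

end Groth.L04.Graded
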