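import Groth.Agent.L04.Graded.TopH
import Groth.Agent.L04.Graded.Dual

/-!
# The canonical module represents the dual of the top local cohomology
-/

set_option autoImplicit false
universe u

open DirectSum Groth.L12.GrLCLib

noncomputable section

namespace Groth.L04.Graded

variable {k : Type u} [Field k] {R : Type u} [CommRing R] [Algebra k R] {𝒜 : ℤ → Submodule k R} [GradedAlgebra 𝒜]

theorem exists_dual_top_equiv [Algebra.FiniteType k R] (a : HomogeneousIdeal 𝒜) {n : ℕ} (hn : ringKrullDim R ≤ n)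
    (I : GrLC.StarInjRes 𝒜 𝒜) [Module k (I.H a n)] [IsScalarTower k R (I.H a n)] [DirectSum.Decomposition (I.Hgr a n)]
    {K : Type u} [AddCommGroup K] [Module R K] [Module k K] [IsScalarTower k R K] {𝒦 : ℤ → AddSubgroup K}
    [DirectSum.Decomposition 𝒦] [SetLike.GradedSMul 𝒜 𝒦] {βK : K →ₗ[k] I.H a n →ₗ[k] k}
    (hK : GrSeg.IsGDual R (I.Hgr a n) 𝒦 βK)
    {M : Type u} [AddCommGroup M] [Module R M] [Module k M] [IsScalarTower k R M] {ℳ : ℤ → AddSubgroup M}
    [DirectSum.Decomposition ℳ] [SetLike.GradedSMul 𝒜 ℳ] [Module.Finite R M] (E : GrLC.StarInjRes 𝒜 ℳ)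
    [Module k (E.H a n)] [IsScalarTower k R (E.H a n)] [DirectSum.Decomposition (E.Hgr a n)]
    {D : Type u} [AddCommGroup D] [Module R D] [Module k D] [IsScalarTower k R D] {𝒟 : ℤ → AddSubgroup D}
    [DirectSum.Decomposition 𝒟] [SetLike.GradedSMul 𝒜 𝒟] {βD : D →ₗ[k] E.H a n →ₗ[k] k}
    (hD : GrSeg.IsGDual R (E.Hgr a n) 𝒟 βD) :
    ∃ ε : D ≃ₗ[R] (M →ₗ[R] K),
      GrLC.IsGrHom 𝒟 (fun d : ℤ => (GrLC.homDeg 𝒜 ℳ 𝒦 d).toAddSubgroup) ε.toLinearMap := by
  classical
  haveI : IsNoetherianRing R := Algebra.FiniteType.isNoetherianRing k R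
  obtain ⟨t, deg, x, hx, hspan, hsurj, hrel, hker⟩ := exists_presentation a I hn E
  let ψ : Fin t → I.H a n →ₗ[R] E.H a n := fun b => psi a I E (hx b) n
  have hψdeg : ∀ b g v, v ∈ I.Hgr a n g → ψ b v ∈ E.Hgr a n (g + deg b) := fun b g v hv => psi_mem a I E (hx b) n hv
  have hbase : ∀ (b : Fin t) (g : ℤ) (δ : D), δ ∈ 𝒟 g →
      ∃ κ ∈ 𝒦 (g + deg b), ∀ v, βK κ v = βD δ (ψ b v) := fun b g δ hδ => by
    obtain ⟨κ, hκ, hκ'⟩ := hK.exists_eq (g + deg b) ((βD δ).comp ((ψ b).restrictScalars k))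
    refine ⟨κ, hκ, fun v => ?_⟩
    induction v using induction_on_hom (I.Hgr a n) with
    | h0 => simp
    | ha p q hp hq => simp only [map_add, hp, hq]
    | hh j v hv =>
      rcases eq_or_ne j (-(g + deg b)) with rfl | hj
      · exact hκ' v hv
      · rw [hK.vanish _ κ hκ j hj v hv, hD.vanish g δ hδ _ (by omega) _ (hψdeg b j v hv)]
  have hex : ∀ (b : Fin t) (δ : D), ∃ κ : K, ∀ v, βK κ v = βD δ (ψ b v) := fun b δ => by
    induction δ using induction_on_hom 𝒟 with
    | h0 => exact ⟨0, by simp⟩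
    | ha p q hp hq =>
      obtain ⟨κ, hκ⟩ := hp
      obtain ⟨κ', hκ'⟩ := hq
      exact ⟨κ + κ', fun v => by simp [hκ, hκ']⟩
    | hh g δ hδ =>
      obtain ⟨κ, -, hκ⟩ := hbase b g δ hδ
      exact ⟨κ, hκ⟩
  choose kap hkap using hex
  have hwd : ∀ (δ : D), ∃ f : M →ₗ[R] K, ∀ b, f (x b) = kap b δ := fun δ => by
    let L : (Fin t → R) →ₗ[R] M := Fintype.linearCombination R x
    let L' : (Fin t → R) →ₗ[R] K := Fintype.linearCombination R fun b => kap b δ
    have hL : Function.Surjective L := by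
      rw [← LinearMap.range_eq_top, Fintype.range_linearCombination, hspan]
    have hle : LinearMap.ker L ≤ LinearMap.ker L' := fun y hy => by
      have hy' : ∑ b, y b • x b = 0 := hy
      refine (LinearMap.mem_ker).2 (pair_injective hK fun v => ?_)
      rw [map_zero, LinearMap.zero_apply, show L' y = ∑ b, y b • kap b δ from rfl, map_sum, LinearMap.sum_apply,
        Finset.sum_congr rfl fun b _ => (hK.map_smul (y b) (kap b δ) v).trans (hkap b δ (y b • v)),
        ← map_sum, hrel y hy' v, map_zero]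
    refine ⟨(LinearMap.ker L).liftQ L' hle ∘ₗ (L.quotKerEquivOfSurjective hL).symm.toLinearMap, fun b => ?_⟩
    have hb : L (Pi.single b 1) = x b := by simp [L, Fintype.linearCombination_apply_single]
    rw [LinearMap.comp_apply, LinearEquiv.coe_coe]
    have h2 : (L.quotKerEquivOfSurjective hL).symm (x b) = Submodule.Quotient.mk (Pi.single b 1) := by
      rw [LinearEquiv.symm_apply_eq]
      exact hb.symm
    rw [h2, Submodule.liftQ_apply]
    simp [L', Fintype.linearCombination_apply_single]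
  choose Φ hΦ using hwd
  have hext : ∀ f f' : M →ₗ[R] K, (∀ b v, βK (f (x b)) v = βK (f' (x b)) v) → f = f' := fun f f' h =>
    LinearMap.ext_on_range hspan fun b => pair_injective hK (h b)
  have hΦ' : ∀ δ b v, βK (Φ δ (x b)) v = βD δ (ψ b v) := fun δ b v => by rw [hΦ, hkap]
  let ΦL : D →ₗ[R] (M →ₗ[R] K) :=
    { toFun := Φ
      map_add' := fun p q => hext _ _ fun b v => by
        rw [LinearMap.add_apply, map_add, LinearMap.add_apply, hΦ', hΦ', hΦ', map_add, LinearMap.add_apply]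
      map_smul' := fun r p => hext _ _ fun b v => by
        rw [RingHom.id_apply, LinearMap.smul_apply, hK.map_smul, hΦ', hΦ', hD.map_smul, (ψ b).map_smul] }
  have hhom : ∀ g δ, δ ∈ 𝒟 g → GrLC.IsGrHomDeg ℳ 𝒦 (Φ δ) g := fun g δ hδ j m hm => by
    have hb : ∀ b, Φ δ (x b) ∈ 𝒦 (g + deg b) := fun b => by
      obtain ⟨κ, hκ, hκ'⟩ := hbase b g δ hδ
      rwa [show Φ δ (x b) = κ from pair_injective hK fun v => (hΦ' δ b v).trans (hκ' v).symm]
    obtain ⟨y, hy⟩ : ∃ y : Fin t → R, ∑ b, y b • x b = m :=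
      (Submodule.mem_span_range_iff_exists_fun R).1 (hspan ▸ Submodule.mem_top)
    have hm' : m = ∑ b, cp 𝒜 (j - deg b) (y b) • x b := by
      conv_lhs => rw [← cp_same ℳ hm, ← hy, map_sum]
      exact Finset.sum_congr rfl fun b _ => cp_smul_mem 𝒜 ℳ (y b) (hx b) j
    rw [hm', map_sum]
    refine sum_mem fun b _ => ?_
    rw [map_smul]
    have h := smul_mem' 𝒜 𝒦 (cp_mem 𝒜 (j - deg b) (y b)) (hb b)
    rwa [show j - deg b + (g + deg b) = j + g by ring] at h
  have hinj : Function.Injective ΦL := by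
    refine (injective_iff_map_eq_zero ΦL).2 fun δ hδ => pair_injective hD fun w => ?_
    obtain ⟨v, rfl⟩ := hsurj w
    rw [map_zero, LinearMap.zero_apply, map_sum]
    refine Finset.sum_eq_zero fun b _ => ?_
    rw [← hΦ', show Φ δ = 0 from hδ, LinearMap.zero_apply, map_zero, LinearMap.zero_apply]
  have hsur : Function.Surjective ΦL := by
    intro f
    obtain ⟨S, fd, hfd, rfl⟩ := exists_hom_decomp 𝒜 ℳ 𝒦 f
    suffices h : ∀ (g : ℤ) (f : M →ₗ[R] K), GrLC.IsGrHomDeg ℳ 𝒦 f g → ∃ δ, ΦL δ = f by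
      choose δ hδ using fun g => h g (fd g) (hfd g)
      exact ⟨∑ g ∈ S, δ g, by rw [map_sum]; exact Finset.sum_congr rfl fun g _ => hδ g⟩
    intro g f hf
    let Ψ : (Fin t → I.H a n) →ₗ[k] E.H a n := ∑ b, ((ψ b).restrictScalars k).comp (LinearMap.proj b)
    have hΨ : ∀ v, Ψ v = ∑ b, ψ b (v b) := fun v => by simp [Ψ]
    let Λ₀ : (Fin t → I.H a n) →ₗ[k] k := ∑ b, (βK (f (x b))).comp (LinearMap.proj b)
    have hΛ₀ : ∀ v, Λ₀ v = ∑ b, βK (f (x b)) (v b) := fun v => by simp [Λ₀]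
    have hle : LinearMap.ker Ψ ≤ LinearMap.ker Λ₀ := fun v hv => by
      have hv' := hker v (by rw [← hΨ]; exact hv)
      suffices h : ∀ r : R, Λ₀ (r • v) = 0 by simpa using h 1
      clear hv
      induction hv' using Submodule.span_induction with
      | mem p hp =>
        obtain ⟨y, h, hy, rfl⟩ := hp
        intro r
        rw [hΛ₀]
        calc ∑ b, βK (f (x b)) ((r • fun b => y b • h) b) = ∑ b, βK ((r * y b) • f (x b)) h :=
              Finset.sum_congr rfl fun b _ => by rw [hK.map_smul, mul_smul]; rfl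
          _ = βK (f (r • ∑ b, y b • x b)) h := by
              simp only [Finset.smul_sum, map_sum, LinearMap.sum_apply, smul_smul, map_smul]
          _ = 0 := by rw [hy, smul_zero, map_zero, map_zero, LinearMap.zero_apply]
      | zero => intro r; rw [smul_zero, map_zero]
      | add p q _ _ hp hq => intro r; rw [smul_add, map_add, hp, hq, add_zero]
      | smul c p _ hp => intro r; rw [smul_smul]; exact hp _
    have hΨs : Function.Surjective Ψ := fun w => by
      obtain ⟨v, hv⟩ := hsurj w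
      exact ⟨v, (hΨ v).trans hv⟩
    let Λ : E.H a n →ₗ[k] k :=
      (LinearMap.ker Ψ).liftQ Λ₀ hle ∘ₗ (Ψ.quotKerEquivOfSurjective hΨs).symm.toLinearMap
    have hΛ : ∀ v, Λ (Ψ v) = Λ₀ v := fun v => by
      have h2 : (Ψ.quotKerEquivOfSurjective hΨs).symm (Ψ v) = Submodule.Quotient.mk v := by
        rw [LinearEquiv.symm_apply_eq]; rfl
      simp only [Λ, LinearMap.comp_apply, LinearEquiv.coe_coe, h2, Submodule.liftQ_apply]
    obtain ⟨δ, hδ, hδ'⟩ := hD.exists_eq g Λ
    refine ⟨δ, hext _ _ fun b v => ?_⟩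
    change βK (Φ δ (x b)) v = _
    rw [hΦ']
    induction v using induction_on_hom (I.Hgr a n) with
    | h0 => simp
    | ha p q hp hq => simp only [map_add, hp, hq]
    | hh j v hv =>
      have hfb : f (x b) ∈ 𝒦 (deg b + g) := hf _ _ (hx b)
      rcases eq_or_ne (j + deg b) (-g) with hj | hj
      · rw [hδ' _ (hj ▸ hψdeg b j v hv)]
        have h1 : Ψ (Pi.single b v) = ψ b v := by
          rw [hΨ, Finset.sum_eq_single b (fun c _ hc => by rw [Pi.single_eq_of_ne hc, map_zero])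
            (fun h => absurd (Finset.mem_univ b) h), Pi.single_eq_same]
        rw [← h1, hΛ, hΛ₀, Finset.sum_eq_single b (fun c _ hc => by rw [Pi.single_eq_of_ne hc, map_zero])
            (fun h => absurd (Finset.mem_univ b) h), Pi.single_eq_same]
      · rw [hD.vanish g δ hδ _ hj _ (hψdeg b j v hv), hK.vanish _ _ hfb j (by omega) v hv]
  exact ⟨LinearEquiv.ofBijective ΦL ⟨hinj, hsur⟩, fun g δ hδ => hhom g δ hδ⟩

end Groth.L04.Graded
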