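import Groth.Agent.L04.Graded.Dual
import Mathlib.RingTheory.Finiteness.Basic

/-!
# Graded Matlis duality over a positively graded algebra over a field
-/

set_option autoImplicit false
universe u

open DirectSum Groth.L12.GrLCLib

noncomputable section

namespace Groth.L04.Graded

variable {k : Type u} [Field k] {R : Type u} [CommRing R] [Algebra k R] {𝒜 : ℤ → Submodule k R} [GradedAlgebra 𝒜]
  {mR : HomogeneousIdeal 𝒜} (hposR : ∀ n : ℤ, n < 0 → 𝒜 n = ⊥)
  (h0R : 𝒜 0 = Submodule.span k {(1 : R)})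
  (hmR : mR.toIdeal = Ideal.span (⋃ n ∈ Set.Ioi (0 : ℤ), (𝒜 n : Set R)))
variable {M : Type u} [AddCommGroup M] [Module R M] [Module k M] [IsScalarTower k R M]
  {ℳ : ℤ → AddSubgroup M} [DirectSum.Decomposition ℳ] [SetLike.GradedSMul 𝒜 ℳ]
variable {D : Type u} [AddCommGroup D] [Module R D] [Module k D] [IsScalarTower k R D]
  {𝒟 : ℤ → AddSubgroup D} [DirectSum.Decomposition 𝒟] [SetLike.GradedSMul 𝒜 𝒟]
variable {β : D →ₗ[k] M →ₗ[k] k}

section Torsion

variable [Module.Finite R M] (hD : GrSeg.IsGDual R ℳ 𝒟 β)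
include hposR hmR hD

theorem isPowerTorsion_dual : LocCoh.IsPowerTorsion mR.toIdeal D := by
  obtain ⟨N, hN⟩ := exists_lb (ℳ := ℳ) hposR
  intro d
  induction d using induction_on_hom 𝒟 with
  | h0 => exact ⟨0, fun a _ => smul_zero a⟩
  | ha a b ha hb =>
    obtain ⟨i, hi⟩ := ha
    obtain ⟨j, hj⟩ := hb
    exact ⟨i + j, fun r hr => by
      rw [smul_add, hi r (Ideal.pow_le_pow_right (Nat.le_add_right i j) hr),
        hj r (Ideal.pow_le_pow_right (Nat.le_add_left j i) hr), add_zero]⟩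
  | hh n d hd =>
    refine ⟨(-n - N + 1).toNat, fun r hr => pair_injective hD fun x => ?_⟩
    rw [map_zero, LinearMap.zero_apply, hD.map_smul, pair_cp' hD n hd]
    obtain ⟨s, hs, -⟩ := exists_sum_cp 𝒜 r
    rw [← hs, Finset.sum_smul, map_sum, map_sum]
    refine Finset.sum_eq_zero fun i _ => ?_
    rw [cp_smul_hom' 𝒜 ℳ (cp_mem 𝒜 i r)]
    rcases lt_or_ge i ((-n - N + 1).toNat : ℤ) with hi | hi
    · rw [pow_le_filt hposR hmR _ hr i hi, zero_smul, map_zero]
    · rw [hN (-n - i) (by omega) _ (cp_mem ℳ _ x), smul_zero, map_zero]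

include h0R

theorem isArtinian_dual [Algebra.FiniteType k R] : IsArtinian R D := by
  haveI : IsNoetherianRing R := Algebra.FiniteType.isNoetherianRing k R
  refine Groth.L04.artinian_of_torsionBy (IsNoetherian.noetherian mR.toIdeal)
    (isPowerTorsion_dual hposR hmR hD) ?_
  obtain ⟨s, hs⟩ := Module.Finite.fg_top (R := R) (M := M)
  let Sock : Submodule k D := (LocCoh.torsionBy mR.toIdeal D).restrictScalars k
  let ev : Sock →ₗ[k] (s → k) := LinearMap.pi fun y : s => (β.flip y.1).comp Sock.subtype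
  have hev : Function.Injective ev := by
    refine (injective_iff_map_eq_zero ev).2 fun d hd => Subtype.ext (pair_injective hD fun x => ?_)
    rw [ZeroMemClass.coe_zero, map_zero, LinearMap.zero_apply]
    have hx : x ∈ Submodule.span R (s : Set M) := by rw [hs]; exact Submodule.mem_top
    induction hx using Submodule.span_induction with
    | mem y hy => exact congrFun hd ⟨y, hy⟩
    | zero => exact map_zero _
    | add a b _ _ ha hb => rw [map_add, ha, hb, add_zero]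
    | smul r y _ hy =>
      obtain ⟨c, hc⟩ := exists_sub_mem_irrelevant hposR h0R hmR r
      have h1 : (r - algebraMap k R c) • d.1 = 0 := Groth.L04.mem_torsionBy.1 d.2 _ hc
      have h2 : β ((r - algebraMap k R c) • d.1) y = 0 := by rw [h1, map_zero, LinearMap.zero_apply]
      rw [hD.map_smul, sub_smul, IsScalarTower.algebraMap_smul, map_sub, (β d.1).map_smul, hy, smul_zero, sub_zero] at h2
      exact h2
  haveI : FiniteDimensional k Sock := Module.Finite.of_injective ev hev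
  haveI : IsScalarTower k R (LocCoh.torsionBy mR.toIdeal D) := ⟨fun c r x => Subtype.ext (smul_assoc c r x.1)⟩
  exact isArtinian_of_tower k (inferInstanceAs (IsArtinian k Sock))

end Torsion

section Dichotomy

variable [Module.Finite R M] (hD : GrSeg.IsGDual R ℳ 𝒟 β)
include hposR hmR hD

/-- Every nonzero homogeneous element has a nonzero multiple killed by the irrelevant ideal. -/
theorem exists_smul_socle {n : ℤ} {d : D} (hd : d ∈ 𝒟 n) (h : d ≠ 0) :
    ∃ (e : ℤ) (r : R), r ∈ 𝒜 e ∧ r • d ≠ 0 ∧ ∀ r' ∈ mR.toIdeal, r' • r • d = 0 := by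
  obtain ⟨N, hN⟩ := exists_lb (ℳ := ℳ) hposR
  have hbd : ∀ e : ℤ, (∃ r ∈ 𝒜 e, r • d ≠ 0) → e ≤ -n - N := fun e ⟨r, hr, hne⟩ => by
    by_contra! hlt
    refine hne (pair_injective hD fun x => ?_)
    rw [map_zero, LinearMap.zero_apply, hD.map_smul, pair_cp' hD n hd, cp_smul_hom' 𝒜 ℳ hr,
      hN (-n - e) (by omega) _ (cp_mem ℳ _ x), smul_zero, map_zero]
  obtain ⟨e, ⟨r, hr, hne⟩, hmax⟩ := Int.exists_greatest_of_bdd ⟨-n - N, hbd⟩
    ⟨0, 1, SetLike.one_mem_graded 𝒜, by rwa [one_smul]⟩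
  refine ⟨e, r, hr, hne, smul_eq_zero_of_forall_pos hmR fun e' he' r' hr' => ?_⟩
  by_contra h'
  have := hmax (e' + e) ⟨r' * r, SetLike.mul_mem_graded hr' hr, by rwa [mul_smul]⟩
  omega

end Dichotomy

section Essential

variable {F : Type u} [AddCommGroup F] [Module R F] [Module k F] [IsScalarTower k R F]
  {ℱ : ℤ → AddSubgroup F} [DirectSum.Decomposition ℱ] [SetLike.GradedSMul 𝒜 ℱ] [Module.Finite R F]
  {E : Type u} [AddCommGroup E] [Module R E] [Module k E] [IsScalarTower k R E]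
  {ℰ : ℤ → AddSubgroup E} [DirectSum.Decomposition ℰ] [SetLike.GradedSMul 𝒜 ℰ]
  {γ : E →ₗ[k] F →ₗ[k] k} (hD : GrSeg.IsGDual R ℳ 𝒟 β) (hE : GrSeg.IsGDual R ℱ ℰ γ)
  {f : F →ₗ[R] M} (hf : Function.Surjective f) (hfgr : GrLC.IsGrHom ℱ ℳ f)
  {g : D →ₗ[R] E} (hg : GrSeg.IsGDualMap β γ f g)
include hD hE hf hfgr hg

include 𝒜 in
theorem dualMap_grHom : GrLC.IsGrHom 𝒟 ℰ g := by
  obtain ⟨g', hg', hg''⟩ := exists_dualMap (𝒜 := 𝒜) hD hE f hfgr
  rwa [dualMap_unique hE hg hg'']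

theorem dualMap_injective : Function.Injective g := by
  intro a b hab
  refine pair_injective hD fun x => ?_
  obtain ⟨y, rfl⟩ := hf x
  rw [← hg, ← hg, hab]

theorem mem_range_dualMap {n : ℤ} {d : E} (hd : d ∈ ℰ n) (h : ∀ x ∈ LinearMap.ker f, γ d x = 0) :
    d ∈ LinearMap.range g := by
  let f' : F →ₗ[k] M := f.restrictScalars k
  obtain ⟨s, hs⟩ := LinearMap.exists_rightInverse_of_surjective f' (LinearMap.range_eq_top.2 hf)
  obtain ⟨a, ha, ha'⟩ := hD.exists_eq n ((γ d).comp s)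
  refine ⟨a, pair_injective hE fun x => ?_⟩
  rw [hg, pair_cp' hD n ha (f x), ha' _ (cp_mem ℳ _ _), pair_cp' hE n hd x]
  have hfx : cp ℳ (-n) (f x) = f (cp ℱ (-n) x) := cp_map ℱ ℳ f.toAddMonoidHom hfgr (-n) x
  rw [LinearMap.comp_apply, hfx, ← sub_eq_zero, ← map_sub]
  refine h _ ?_
  rw [LinearMap.mem_ker, map_sub, sub_eq_zero]
  exact LinearMap.congr_fun hs (f (cp ℱ (-n) x))

include hposR h0R hmR

theorem ker_le_iff_isStarEss : LinearMap.ker f ≤ mR.toIdeal • (⊤ : Submodule R F) ↔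
    GrLC.IsStarEss 𝒟 ℰ g := by
  constructor
  · intro hle
    refine ⟨dualMap_injective hD hE hf hfgr hg, dualMap_grHom (𝒜 := 𝒜) hD hE hf hfgr hg, fun P hP hne => ?_⟩
    obtain ⟨z, hz, hz0⟩ := Submodule.exists_mem_ne_zero_of_ne_bot hne
    obtain ⟨n, hn⟩ : ∃ n, cp ℰ n z ≠ 0 := by
      by_contra! h
      exact hz0 (eq_zero_of_cp ℰ h)
    obtain ⟨e, r, hr, hrne, hkill⟩ := exists_smul_socle hposR hmR hE (cp_mem ℰ n z) hn
    have hrd : r • cp ℰ n z ∈ ℰ (e + n) := smul_mem' 𝒜 ℰ hr (cp_mem ℰ n z)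
    refine (Submodule.ne_bot_iff _).2 ⟨r • cp ℰ n z, ⟨P.smul_mem r (hP n hz),
      mem_range_dualMap hD hE hf hfgr hg hrd fun x hx => ?_⟩, hrne⟩
    refine Submodule.smul_induction_on (hle hx) (fun a ha m _ => ?_) fun a b ha hb => by rw [map_add, ha, hb, add_zero]
    rw [← hE.map_smul, hkill a ha, map_zero, LinearMap.zero_apply]
  · intro hess x hx
    by_contra hxm
    obtain ⟨j, hj⟩ : ∃ j, cp ℱ j x ∉ mR.toIdeal • (⊤ : Submodule R F) := by
      by_contra! h
      obtain ⟨s, hs, -⟩ := exists_sum_cp ℱ x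
      exact hxm (hs ▸ sum_mem fun i _ => h i)
    have hxj : cp ℱ j x ∈ LinearMap.ker f := ker_isHomogeneous ℱ ℳ hfgr j hx
    obtain ⟨φ, hφ, hle⟩ := Submodule.exists_le_ker_of_notMem
      (p := (mR.toIdeal • (⊤ : Submodule R F)).restrictScalars k) hj
    obtain ⟨d, hd, hd'⟩ := hE.exists_eq (-j) φ
    have hkill : ∀ r ∈ mR.toIdeal, r • d = 0 := fun r hr => pair_injective hE fun y => by
      rw [map_zero, LinearMap.zero_apply, hE.map_smul, pair_cp' hE _ hd, hd' _ (cp_mem ℱ _ _)]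
      exact hle ((smul_top_isHomogeneous ℱ) _ (Submodule.smul_mem_smul hr Submodule.mem_top))
    have hdx : γ d (cp ℱ j x) = φ (cp ℱ j x) := hd' _ (by rw [neg_neg]; exact cp_mem ℱ j x)
    have hd0 : d ≠ 0 := fun h => hφ (by rw [← hdx, h, map_zero, LinearMap.zero_apply])
    obtain ⟨z, hz, hz0⟩ := Submodule.exists_mem_ne_zero_of_ne_bot
      (hess.essential _ (Groth.L12.GrLCLib.span_isHomogeneous 𝒜 ℰ fun y hy => ⟨-j, by rwa [Set.mem_singleton_iff.1 hy]⟩) (by simpa using hd0))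
    obtain ⟨hzs, a, ha⟩ := hz
    obtain ⟨r, rfl⟩ := Submodule.mem_span_singleton.1 hzs
    obtain ⟨c, hc⟩ := exists_sub_mem_irrelevant hposR h0R hmR r
    have hrd : r • d = c • d := by
      have h := hkill _ hc
      rw [sub_smul, IsScalarTower.algebraMap_smul, sub_eq_zero] at h
      exact h
    have hc0 : c ≠ 0 := fun h => hz0 (by rw [hrd, h, zero_smul])
    refine hφ ?_
    have h2 : c * φ (cp ℱ j x) = 0 := by
      rw [← hdx, ← smul_eq_mul, ← LinearMap.smul_apply, ← map_smul, ← hrd, ← ha, hg, LinearMap.mem_ker.1 hxj, map_zero]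
    exact (mul_eq_zero.1 h2).resolve_left hc0

end Essential

end Groth.L04.Graded
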