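import Groth.Agent.L12.GrLCBase
import Groth.Agent.L12.GrSegPieces
import Groth.Prelude.Def_GrSeg

/-!
# Positively graded algebras over a field: degrees and pieces
-/

set_option autoImplicit false
universe u

open DirectSum Groth.L12.GrLCLib

noncomputable section

namespace Groth.L04.Graded

variable {k : Type u} [Field k] {R : Type u} [CommRing R] [Algebra k R] {𝒜 : ℤ → Submodule k R} [GradedAlgebra 𝒜]
variable {M : Type u} [AddCommGroup M] [Module R M] [Module k M] [IsScalarTower k R M]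
  {ℳ : ℤ → AddSubgroup M} [DirectSum.Decomposition ℳ] [SetLike.GradedSMul 𝒜 ℳ]

variable (𝒜) in
include 𝒜 in
theorem smul_mem_piece (c : k) {g : ℤ} {x : M} (hx : x ∈ ℳ g) : c • x ∈ ℳ g := by
  have h := smul_mem' 𝒜 ℳ (SetLike.algebraMap_mem_graded 𝒜 c) hx
  rwa [zero_add, IsScalarTower.algebraMap_smul] at h

variable (𝒜 ℳ) in
/-- The pieces as subspaces. -/
def piece (g : ℤ) : Submodule k M where
  carrier := ℳ g
  add_mem' := (ℳ g).add_mem
  zero_mem' := (ℳ g).zero_mem
  smul_mem' c _ hx := smul_mem_piece 𝒜 c hx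

@[simp] theorem mem_piece {g : ℤ} {x : M} : x ∈ piece 𝒜 ℳ g ↔ x ∈ ℳ g := Iff.rfl

variable (𝒜 ℳ) in
/-- The homogeneous component as a linear map. -/
def cpL (g : ℤ) : M →ₗ[k] M where
  toFun := cp ℳ g
  map_add' := map_add _
  map_smul' c x := by
    rw [RingHom.id_apply, ← IsScalarTower.algebraMap_smul R c x,
      cp_smul_hom' 𝒜 ℳ (SetLike.algebraMap_mem_graded 𝒜 c), sub_zero, IsScalarTower.algebraMap_smul]

@[simp] theorem cpL_apply (g : ℤ) (x : M) : cpL 𝒜 ℳ g x = cp ℳ g x := rfl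

theorem finite_piece [Algebra.FiniteType k R] [Module.Finite R M] (h0R : 𝒜 0 = Submodule.span k {(1 : R)})
    (g : ℤ) : Module.Finite k (piece 𝒜 ℳ g) := by
  haveI := Groth.L12.GrSegLib.finite_pieceK (𝒜 := 𝒜) ℳ h0R g
  exact Module.Finite.equiv (LinearEquiv.ofEq (Groth.L12.GrSegLib.pieceK 𝒜 ℳ g) (piece 𝒜 ℳ g)
    (Submodule.ext fun x => Groth.L12.GrSegLib.mem_pieceK ℳ))

theorem eq_zero_of_mem_neg (hposR : ∀ n : ℤ, n < 0 → 𝒜 n = ⊥) {e : ℤ} (he : e < 0) {r : R} (hr : r ∈ 𝒜 e) :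
    r = 0 := by
  rwa [hposR e he, Submodule.mem_bot] at hr

/-- A finite graded module over a positively graded algebra is bounded below. -/
theorem exists_lb (hposR : ∀ n : ℤ, n < 0 → 𝒜 n = ⊥) [Module.Finite R M] :
    ∃ N : ℤ, ∀ g < N, ∀ x ∈ ℳ g, x = 0 := by
  classical
  obtain ⟨s, hs⟩ := Module.Finite.fg_top (R := R) (M := M)
  choose t ht ht' using fun x : M => exists_sum_cp ℳ x
  let T : Finset ℤ := s.biUnion t
  obtain ⟨N, hN⟩ := T.finite_toSet.bddBelow
  refine ⟨N, fun g hg => ?_⟩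
  suffices h : ∀ x : M, cp ℳ g x = 0 by
    intro x hx
    rw [← cp_same ℳ hx]
    exact h x
  intro x
  have hx : x ∈ Submodule.span R (s : Set M) := by rw [hs]; exact Submodule.mem_top
  suffices h : ∀ g, g < N → cp ℳ g x = 0 from h g hg
  induction hx using Submodule.span_induction with
  | mem y hy =>
    intro g hg
    by_contra h
    have : g ∈ T := Finset.mem_biUnion.2 ⟨y, hy, ht' y g h⟩
    exact absurd (hN this) (not_le.2 hg)
  | zero => intro g _; exact map_zero _
  | add a b _ _ ha hb => intro g hg; rw [map_add, ha g hg, hb g hg, add_zero]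
  | smul r y _ hy =>
    intro g hg
    induction r using induction_on_hom 𝒜 with
    | h0 => rw [zero_smul, map_zero]
    | ha a b ha hb => rw [add_smul, map_add, ha, hb, add_zero]
    | hh e c hc =>
      rcases lt_or_ge e 0 with he | he
      · rw [eq_zero_of_mem_neg hposR he hc, zero_smul, map_zero]
      · rw [cp_smul_hom' 𝒜 ℳ hc, hy _ (by omega), smul_zero]

section Irrelevant

variable {mR : HomogeneousIdeal 𝒜} (hposR : ∀ n : ℤ, n < 0 → 𝒜 n = ⊥)
  (h0R : 𝒜 0 = Submodule.span k {(1 : R)})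
  (hmR : mR.toIdeal = Ideal.span (⋃ n ∈ Set.Ioi (0 : ℤ), (𝒜 n : Set R)))

variable (𝒜) in
/-- Elements without components below `N`. -/
def filt (hposR : ∀ n : ℤ, n < 0 → 𝒜 n = ⊥) (N : ℕ) : Ideal R where
  carrier := {r | ∀ e : ℤ, e < N → cp 𝒜 e r = 0}
  zero_mem' := fun _ _ => map_zero _
  add_mem' {a b} ha hb := fun e he => by rw [map_add, ha e he, hb e he, add_zero]
  smul_mem' c x hx := by
    intro e he
    induction c using induction_on_hom 𝒜 with
    | h0 => rw [zero_smul, map_zero]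
    | ha a b ha hb => rw [add_smul, map_add, ha, hb, add_zero]
    | hh i c hc =>
      rcases lt_or_ge i 0 with hi | hi
      · rw [eq_zero_of_mem_neg hposR hi hc, zero_smul, map_zero]
      · rw [cp_smul_hom' 𝒜 𝒜 hc, hx _ (by omega), smul_zero]

theorem mul_mem_filt {a b : ℕ} {r u : R} (hr : r ∈ filt 𝒜 hposR a) (hu : u ∈ filt 𝒜 hposR b) :
    r * u ∈ filt 𝒜 hposR (a + b) := by
  obtain ⟨s, hs, -⟩ := exists_sum_cp 𝒜 r
  intro e he
  rw [← hs, Finset.sum_mul, map_sum]
  refine Finset.sum_eq_zero fun i _ => ?_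
  rw [← smul_eq_mul, cp_smul_hom' 𝒜 𝒜 (cp_mem 𝒜 i r)]
  rcases lt_or_ge i (a : ℤ) with hi | hi
  · rw [hr i hi, zero_smul]
  · rw [hu _ (by push_cast at he; omega), smul_zero]

include hmR in
theorem pow_le_filt (N : ℕ) : mR.toIdeal ^ N ≤ filt 𝒜 hposR N := by
  induction N with
  | zero =>
    intro r _ e he
    exact eq_zero_of_mem_neg hposR (by simpa using he) (cp_mem 𝒜 e r)
  | succ N ih =>
    rw [pow_succ, Ideal.mul_le]
    intro r hr u hu
    refine mul_mem_filt hposR (ih hr) ?_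
    have h1 : mR.toIdeal ≤ filt 𝒜 hposR 1 := by
      rw [hmR, Ideal.span_le]
      intro x hx
      simp only [Set.mem_iUnion, Set.mem_Ioi, SetLike.mem_coe] at hx
      obtain ⟨n, hn, hxn⟩ := hx
      intro e he
      exact cp_ne 𝒜 hxn (by push_cast at he; omega)
    exact h1 hu

include hmR in
theorem mem_irrelevant {n : ℤ} (hn : 0 < n) {r : R} (hr : r ∈ 𝒜 n) : r ∈ mR.toIdeal := by
  rw [hmR]
  exact Ideal.subset_span (Set.mem_biUnion (Set.mem_Ioi.2 hn) hr)

include hposR h0R hmR in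
theorem exists_sub_mem_irrelevant (r : R) : ∃ c : k, r - algebraMap k R c ∈ mR.toIdeal := by
  induction r using induction_on_hom 𝒜 with
  | h0 => exact ⟨0, by simp⟩
  | ha a b ha hb =>
    obtain ⟨c, hc⟩ := ha
    obtain ⟨c', hc'⟩ := hb
    exact ⟨c + c', by rw [map_add, add_sub_add_comm]; exact add_mem hc hc'⟩
  | hh e z hz =>
    rcases lt_trichotomy e 0 with he | he | he
    · exact ⟨0, by simp [eq_zero_of_mem_neg hposR he hz]⟩
    · subst he
      obtain ⟨c, rfl⟩ := Submodule.mem_span_singleton.1 (h0R.le hz)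
      exact ⟨c, by simp [Algebra.smul_def]⟩
    · exact ⟨0, by simpa using mem_irrelevant hmR he hz⟩

include hmR in
theorem smul_eq_zero_of_forall_pos {x : M} (h : ∀ e : ℤ, 0 < e → ∀ r ∈ 𝒜 e, r • x = 0) :
    ∀ r ∈ mR.toIdeal, r • x = 0 := by
  intro r hr
  rw [hmR] at hr
  induction hr using Submodule.span_induction with
  | mem y hy =>
    simp only [Set.mem_iUnion, Set.mem_Ioi, SetLike.mem_coe] at hy
    obtain ⟨n, hn, hyn⟩ := hy
    exact h n hn y hyn
  | zero => exact zero_smul _ _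
  | add a b _ _ ha hb => rw [add_smul, ha, hb, add_zero]
  | smul a y _ hy => rw [smul_eq_mul, mul_smul, hy, smul_zero]

variable (ℳ) in
theorem smul_top_isHomogeneous : (mR.toIdeal • (⊤ : Submodule R M)).IsHomogeneous ℳ := by
  rw [isHomogeneous_iff]
  intro g x hx
  refine Submodule.smul_induction_on hx (fun r hr m _ => ?_) fun a b ha hb => by rw [map_add]; exact add_mem ha hb
  obtain ⟨s, hs, -⟩ := exists_sum_cp 𝒜 r
  rw [← hs, Finset.sum_smul, map_sum]
  refine sum_mem fun i _ => ?_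
  rw [cp_smul_hom' 𝒜 ℳ (cp_mem 𝒜 i r)]
  exact Submodule.smul_mem_smul (mR.isHomogeneous i hr) Submodule.mem_top

end Irrelevant

end Groth.L04.Graded
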