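import Groth.Agent.L04.Graded.SerreGen
import Groth.Agent.L12.GrLCAsub
import Groth.Prelude.Def_ReesMod
import Groth.Prelude.Def_GrSyz
import Mathlib.RingTheory.ReesAlgebra

/-!
# The Rees module and the associated graded module as graded modules over the Rees algebra
-/

set_option autoImplicit false
set_option maxHeartbeats 800000
universe u

open DirectSum Groth.L12.GrLCLib Groth.L12.GrLCLib.Asub

noncomputable section

namespace Groth.L04.Graded.ReesS

variable {A : Type u} [CommRing A] (I : Ideal A) (M : Type u) [AddCommGroup M] [Module A M]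

/-- The pieces of the Rees algebra. -/
abbrev 𝒮 : ℤ → AddSubgroup (reesAlgebra I) := asub (Rees.degZ (reesAlgebra I))

/-- The Rees module. -/
abbrev MS : GrLC.GMod.{u} (𝒮 I) :=
  GrLC.GMod.of (𝒮 I) (Rees.powFilt I M).submodule (asub (Rees.mdegZ (Rees.powFilt I M)))

variable {I M}

theorem coeff_mem (x : (MS I M).carrier) (n : ℕ) :
    (x.1 : PolynomialModule A M).coeff n ∈ (I ^ n • ⊤ : Submodule A M) := x.2 n

theorem filt_mono (n : ℕ) : (I ^ (n + 1) • ⊤ : Submodule A M) ≤ I ^ n • ⊤ :=
  Submodule.smul_mono (Ideal.pow_le_pow_right n.le_succ) le_rfl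

theorem mem_gr_iff (g : ℤ) (x : (MS I M).carrier) :
    x ∈ (MS I M).gr g ↔ ∀ j : ℕ, (j : ℤ) ≠ g → (x.1 : PolynomialModule A M).coeff j = 0 := Iff.rfl

/-- The coefficient as an additive map. -/
def coeffHom (j : ℕ) : (MS I M).carrier →+ M where
  toFun x := (x.1 : PolynomialModule A M).coeff j
  map_zero' := rfl
  map_add' _ _ := rfl

/-- A homogeneous element of the Rees module. -/
def sgl (n : ℕ) (v : (I ^ n • ⊤ : Submodule A M)) : (MS I M).carrier :=
  ⟨PolynomialModule.single A n (v : M), fun j => by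
    rw [PolynomialModule.coeff_single, Finsupp.single_apply]
    split_ifs with h
    · subst h
      exact v.2
    · exact zero_mem _⟩

theorem coeff_sgl (n : ℕ) (v : (I ^ n • ⊤ : Submodule A M)) (j : ℕ) :
    ((sgl n v).1 : PolynomialModule A M).coeff j = if n = j then (v : M) else 0 := by
  change (PolynomialModule.single A n (v : M)).coeff j = _
  rw [PolynomialModule.coeff_single, Finsupp.single_apply]

theorem sgl_mem (n : ℕ) (v : (I ^ n • ⊤ : Submodule A M)) : sgl n v ∈ (MS I M).gr n := by
  rw [mem_gr_iff]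
  intro j hj
  rw [coeff_sgl, if_neg]
  exact fun h => hj (by rw [h])

theorem ext_coeff {x y : (MS I M).carrier}
    (h : ∀ j, (x.1 : PolynomialModule A M).coeff j = (y.1 : PolynomialModule A M).coeff j) : x = y :=
  Subtype.ext (PolynomialModule.ext (Finsupp.ext h))

theorem eq_sgl {n : ℕ} {x : (MS I M).carrier} (hx : x ∈ (MS I M).gr n) : x = sgl n ⟨_, coeff_mem x n⟩ :=
  ext_coeff fun j => by
    rw [coeff_sgl]
    split_ifs with h
    · subst h; rfl
    · exact (mem_gr_iff _ x).1 hx j fun e => h (by exact_mod_cast e.symm)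

theorem eq_zero_of_neg {g : ℤ} (hg : g < 0) {x : (MS I M).carrier} (hx : x ∈ (MS I M).gr g) : x = 0 :=
  ext_coeff fun j => ((mem_gr_iff _ x).1 hx j (by omega)).trans (map_zero (coeffHom (I := I) (M := M) j)).symm

theorem coeff_cp (g : ℤ) (x : (MS I M).carrier) (j : ℕ) :
    coeffHom j (cp (MS I M).gr g x) = if (j : ℤ) = g then coeffHom j x else 0 := by
  induction x using induction_on_hom (MS I M).gr with
  | h0 => simp
  | ha a b ha hb => simp only [map_add, ha, hb]; split_ifs <;> simp
  | hh h y hy =>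
    rcases eq_or_ne h g with rfl | hne
    · rw [cp_same _ hy]
      split_ifs with hj
      · rfl
      · exact (mem_gr_iff _ y).1 hy j hj
    · rw [cp_ne _ hy hne, map_zero]
      split_ifs with hj
      · exact ((mem_gr_iff _ y).1 hy j (fun e => hne (e.symm.trans hj))).symm
      · rfl

theorem deg0_eq (r : reesAlgebra I) (hr : r ∈ 𝒮 I 0) :
    r = algebraMap A (reesAlgebra I) ((r.1 : Polynomial A).coeff 0) := by
  refine Subtype.ext (Polynomial.ext fun j => ?_)
  change (r.1 : Polynomial A).coeff j = (Polynomial.C ((r.1 : Polynomial A).coeff 0)).coeff j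
  rw [Polynomial.coeff_C]
  split_ifs with h
  · rw [h]
  · exact (Rees.mem_degZ_iff (reesAlgebra I) 0 r).1 hr j (by exact_mod_cast h)

theorem algebraMap_mem_zero (c : A) : algebraMap A (reesAlgebra I) c ∈ 𝒮 I 0 := by
  change algebraMap A (reesAlgebra I) c ∈ Rees.degZ (reesAlgebra I) 0
  rw [Rees.mem_degZ_iff]
  intro j hj
  change (Polynomial.C c).coeff j = 0
  rw [Polynomial.coeff_C, if_neg]
  exact fun h => hj (by rw [h]; rfl)

variable (I) in
/-- `A` is the degree zero part. -/
def toDeg0 : A →+* GrLC.deg0 (𝒮 I) :=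
  (algebraMap A (reesAlgebra I)).codRestrict (GrLC.deg0 (𝒮 I)) algebraMap_mem_zero

instance : RingHomSurjective (toDeg0 I) :=
  ⟨fun r => ⟨_, Subtype.ext (deg0_eq r.1 r.2).symm⟩⟩

theorem nonneg (g : ℤ) (hg : g < 0) : 𝒮 I g = ⊥ := by
  refine (AddSubgroup.eq_bot_iff_forall _).2 fun r hr => Subtype.ext (Polynomial.ext fun j => ?_)
  rw [(Rees.mem_degZ_iff (reesAlgebra I) g r).1 hr j (by omega)]
  simp

/-- The elements with coefficients one step further in the filtration. -/
def succSub : Submodule (reesAlgebra I) (MS I M).carrier where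
  carrier := {x | ∀ j, coeffHom j x ∈ (I ^ (j + 1) • ⊤ : Submodule A M)}
  zero_mem' j := by rw [map_zero]; exact zero_mem _
  add_mem' {x y} hx hy j := by rw [map_add]; exact add_mem (hx j) (hy j)
  smul_mem' r x hx j := by
    change ((r.1 : Polynomial A) • (x.1 : PolynomialModule A M)).coeff j ∈ _
    rw [PolynomialModule.smul_apply]
    refine sum_mem fun p hp => ?_
    rw [Finset.HasAntidiagonal.mem_antidiagonal] at hp
    rw [← hp, add_assoc, pow_add, Submodule.mul_smul]
    exact Submodule.smul_mem_smul (r.2 p.1) (hx p.2)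

/-- The elements without constant term. -/
def posSub : Submodule (reesAlgebra I) (MS I M).carrier where
  carrier := {x | coeffHom 0 x = 0}
  zero_mem' := map_zero _
  add_mem' {x y} hx hy := by rw [Set.mem_ofPred_eq, map_add, hx, hy, add_zero]
  smul_mem' r x hx := by
    change ((r.1 : Polynomial A) • (x.1 : PolynomialModule A M)).coeff 0 = 0
    rw [PolynomialModule.smul_apply, Finset.Nat.antidiagonal_zero, Finset.sum_singleton]
    exact (congrArg _ hx).trans (smul_zero _)

theorem succSub_homogeneous : (succSub (I := I) (M := M)).IsHomogeneous (MS I M).gr := fun g x hx j => by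
  change coeffHom j (cp (MS I M).gr g x) ∈ _
  rw [coeff_cp]
  split_ifs
  · exact hx j
  · exact zero_mem _

theorem posSub_homogeneous : (posSub (I := I) (M := M)).IsHomogeneous (MS I M).gr := fun g x hx => by
  change coeffHom 0 (cp (MS I M).gr g x) = 0
  rw [coeff_cp]
  split_ifs
  · exact hx
  · rfl

variable (I M)

/-- The shifted positive part. -/
abbrev SG : GrLC.GMod.{u} (𝒮 I) := subG (𝒮 I) (MS I M).gr succSub succSub_homogeneous

/-- The positive part. -/
abbrev PG : GrLC.GMod.{u} (𝒮 I) := subG (𝒮 I) (MS I M).gr posSub posSub_homogeneous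

/-- The associated graded module. -/
abbrev GG : GrLC.GMod.{u} (𝒮 I) := quoG (𝒮 I) (MS I M).gr succSub succSub_homogeneous

/-- The degree zero part. -/
abbrev ZG : GrLC.GMod.{u} (𝒮 I) := quoG (𝒮 I) (MS I M).gr posSub posSub_homogeneous

variable {I M}

theorem coeff_X_smul (x : PolynomialModule A M) (j : ℕ) :
    ((Polynomial.X : Polynomial A) • x).coeff j = if 1 ≤ j then x.coeff (j - 1) else 0 := by
  rw [← Polynomial.monomial_one_one_eq_X, PolynomialModule.monomial_smul_apply, one_smul]

/-- Multiplication with `X`. -/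
def mulX : (SG I M).carrier →ₗ[reesAlgebra I] (PG I M).carrier where
  toFun x := ⟨⟨(Polynomial.X : Polynomial A) • (x.1.1 : PolynomialModule A M), fun j => by
      rw [coeff_X_smul]
      split_ifs with h
      · have := x.2 (j - 1)
        rwa [Nat.sub_add_cancel h] at this
      · exact zero_mem _⟩, by
    change ((Polynomial.X : Polynomial A) • (x.1.1 : PolynomialModule A M)).coeff 0 = 0
    rw [coeff_X_smul, if_neg (by omega)]⟩
  map_add' x y := Subtype.ext (Subtype.ext (smul_add _ _ _))
  map_smul' r x := Subtype.ext (Subtype.ext (smul_comm _ (r.1 : Polynomial A) _))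

theorem coeff_mulX (x : (SG I M).carrier) (j : ℕ) :
    coeffHom (j + 1) (mulX x).1 = coeffHom j x.1 := by
  change ((Polynomial.X : Polynomial A) • (x.1.1 : PolynomialModule A M)).coeff (j + 1) = _
  rw [coeff_X_smul, if_pos (by omega), Nat.add_sub_cancel]
  rfl

theorem mulX_grHom (g : ℤ) (x : (SG I M).carrier) (hx : x ∈ (SG I M).gr g) : mulX x ∈ (PG I M).gr (g + 1) := by
  change (mulX x).1 ∈ (MS I M).gr (g + 1)
  rw [mem_gr_iff]
  intro j hj
  change ((Polynomial.X : Polynomial A) • (x.1.1 : PolynomialModule A M)).coeff j = 0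
  rw [coeff_X_smul]
  split_ifs with h
  · exact (mem_gr_iff g x.1).1 hx (j - 1) (by omega)
  · rfl

theorem mulX_bijective : Function.Bijective (mulX : (SG I M).carrier →ₗ[reesAlgebra I] (PG I M).carrier) := by
  refine ⟨fun x y h => Subtype.ext (ext_coeff fun j => ?_), fun z => ?_⟩
  · have := congrArg (fun w => coeffHom (j + 1) w.1) h
    simp only [coeff_mulX] at this
    exact this
  · induction z using induction_on_hom (PG I M).gr with
    | h0 => exact ⟨0, map_zero _⟩
    | ha a b ha hb =>
      obtain ⟨x, rfl⟩ := ha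
      obtain ⟨y, rfl⟩ := hb
      exact ⟨x + y, map_add _ _ _⟩
    | hh g y hy =>
      by_cases hg : ∃ k : ℕ, (k : ℤ) + 1 = g
      · obtain ⟨k, rfl⟩ := hg
        let v : (I ^ k • ⊤ : Submodule A M) := ⟨coeffHom (k + 1) y.1, filt_mono k (coeff_mem y.1 (k + 1))⟩
        have hv : sgl k v ∈ succSub (I := I) (M := M) := fun j => by
          change ((sgl k v).1 : PolynomialModule A M).coeff j ∈ _
          rw [coeff_sgl]
          split_ifs with h
          · subst h
            exact coeff_mem y.1 (k + 1)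
          · exact zero_mem _
        refine ⟨⟨sgl k v, hv⟩, Subtype.ext (ext_coeff fun j => ?_)⟩
        cases j with
        | zero => exact (mulX ⟨sgl k v, hv⟩).2.trans (y.2 : coeffHom 0 y.1 = 0).symm
        | succ i =>
          refine (coeff_mulX _ i).trans ?_
          change ((sgl k v).1 : PolynomialModule A M).coeff i = _
          rw [coeff_sgl]
          split_ifs with h
          · subst h; rfl
          · exact ((mem_gr_iff _ y.1).1 hy (i + 1) (by push_cast; omega)).symm
      · refine ⟨0, (map_zero _).trans (Subtype.ext (ext_coeff fun j => ?_)).symm⟩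
        cases j with
        | zero => exact (y.2 : coeffHom 0 y.1 = 0).trans (map_zero (coeffHom (I := I) (M := M) 0)).symm
        | succ i =>
          exact ((mem_gr_iff _ y.1).1 hy (i + 1) (fun e => hg ⟨i, by rw [← e]; push_cast; rfl⟩)).trans (map_zero (coeffHom (I := I) (M := M) (i + 1))).symm

/-- The class of a homogeneous element in the associated graded module. -/
def theta (n : ℕ) : (I ^ n • ⊤ : Submodule A M) →ₛₗ[toDeg0 I] GrLC.comp (𝒮 I) (GG I M).gr n where
  toFun v := ⟨(succSub (I := I) (M := M)).mkQ (sgl n v), sgl n v, sgl_mem n v, rfl⟩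
  map_add' v w := Subtype.ext (by
    change (succSub (I := I) (M := M)).mkQ (sgl n (v + w)) = (succSub (I := I) (M := M)).mkQ (sgl n v) + (succSub (I := I) (M := M)).mkQ (sgl n w)
    rw [← map_add]
    refine congrArg _ (ext_coeff fun j => ?_)
    refine Eq.trans ?_ (map_add (coeffHom (I := I) (M := M) j) (sgl n v) (sgl n w)).symm
    refine (coeff_sgl n (v + w) j).trans ?_
    refine Eq.trans ?_ (congrArg₂ (· + ·) (coeff_sgl n v j) (coeff_sgl n w j)).symm
    split_ifs <;> simp)
  map_smul' c v := Subtype.ext (by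
    change (succSub (I := I) (M := M)).mkQ (sgl n (c • v)) =
      algebraMap A (reesAlgebra I) c • (succSub (I := I) (M := M)).mkQ (sgl n v)
    rw [← map_smul]
    refine congrArg _ (ext_coeff fun j => ?_)
    change _ = ((Polynomial.C c : Polynomial A) • ((sgl n v).1 : PolynomialModule A M)).coeff j
    rw [← Polynomial.monomial_zero_left, PolynomialModule.monomial_smul_apply, if_pos j.zero_le, Nat.sub_zero,
      coeff_sgl, coeff_sgl]
    split_ifs <;> simp)

theorem theta_surjective (n : ℕ) : Function.Surjective (theta (I := I) (M := M) n) := by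
  rintro ⟨z, x, hx, rfl⟩
  refine ⟨⟨_, coeff_mem x n⟩, Subtype.ext ?_⟩
  change (succSub (I := I) (M := M)).mkQ _ = _
  rw [← eq_sgl hx]
  rfl

theorem theta_eq_zero_iff (n : ℕ) (v : (I ^ n • ⊤ : Submodule A M)) :
    theta n v = 0 ↔ (v : M) ∈ (I ^ (n + 1) • ⊤ : Submodule A M) := by
  rw [Subtype.ext_iff]
  refine (Submodule.Quotient.mk_eq_zero (succSub (I := I) (M := M))).trans ⟨fun h => ?_, fun h j => ?_⟩
  · have h1 : ((sgl n v).1 : PolynomialModule A M).coeff n ∈ (I ^ (n + 1) • ⊤ : Submodule A M) := h n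
    rwa [coeff_sgl, if_pos rfl] at h1
  · change ((sgl n v).1 : PolynomialModule A M).coeff j ∈ _
    rw [coeff_sgl]
    split_ifs with e
    · subst e; exact h
    · exact zero_mem _

theorem subsingleton_GG_neg {g : ℤ} (hg : g < 0) : Subsingleton (GrLC.comp (𝒮 I) (GG I M).gr g) :=
  subsingleton_of_forall_eq 0 fun z => by
    obtain ⟨x, hx, hxz⟩ := z.2
    refine Subtype.ext (hxz.symm.trans ?_)
    rw [eq_zero_of_neg hg hx, map_zero]
    rfl

theorem gam_ZG {a : HomogeneousIdeal (𝒮 I)}
    (ha : a.toIdeal = Ideal.span (⋃ n ∈ Set.Ioi (0 : ℤ), (𝒮 I n : Set (reesAlgebra I)))) :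
    GrLC.gam a.toIdeal (ZG I M).carrier = ⊤ := eq_top_iff.2 fun z _ => ⟨1, fun r hr => by
  obtain ⟨x, rfl⟩ := Submodule.Quotient.mk_surjective (posSub (I := I) (M := M)) z
  rw [pow_one, ha] at hr
  refine (Submodule.Quotient.mk_smul _ r x).symm.trans ((Submodule.Quotient.mk_eq_zero _).2 ?_)
  induction hr using Submodule.span_induction with
  | mem r hr =>
    obtain ⟨k, hk, hrk⟩ := Set.mem_iUnion₂.1 hr
    change ((r.1 : Polynomial A) • (x.1 : PolynomialModule A M)).coeff 0 = 0
    rw [PolynomialModule.smul_apply, Finset.Nat.antidiagonal_zero, Finset.sum_singleton]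
    rw [Set.mem_Ioi] at hk
    rw [(Rees.mem_degZ_iff (reesAlgebra I) k r).1 hrk 0 (by omega), zero_smul]
  | zero => rw [zero_smul]; exact zero_mem _
  | add p q _ _ hp hq => rw [add_smul]; exact add_mem hp hq
  | smul c p _ hp => rw [smul_eq_mul, mul_smul]; exact Submodule.smul_mem _ c hp⟩

theorem ZG_piece_eq_zero {g : ℤ} (hg : g ≠ 0) {z : (ZG I M).carrier} (hz : z ∈ (ZG I M).gr g) : z = 0 := by
  obtain ⟨x, hx, rfl⟩ := hz
  exact (Submodule.Quotient.mk_eq_zero _).2 ((mem_gr_iff g x).1 hx 0 (fun e => hg e.symm))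

theorem finite_MS [IsNoetherianRing A] [Module.Finite A M] : Module.Finite (reesAlgebra I) (MS I M).carrier :=
  Module.Finite.of_fg (((Rees.powFilt I M).submodule_fg_iff_stable
    (fun i => IsNoetherian.noetherian _)).2 (I.stableFiltration_stable ⊤))

end Groth.L04.Graded.ReesS
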