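import Groth.Agent.L12.GrLCAcyclic
import Groth.Agent.L12.GrLCAinv
import Groth.Agent.L04.LC.Change

/-!
# Graded local cohomology and restriction of scalars along a finite graded ring map
-/

set_option autoImplicit false
universe u

open DirectSum Groth.L12.GrLCLib

namespace Groth.L04.Graded

variable {R : Type u} [CommRing R] {𝒜 : ℤ → AddSubgroup R} [GradedRing 𝒜]
variable {S : Type u} [CommRing S] [Algebra R S] {𝒜' : ℤ → AddSubgroup S} [GradedRing 𝒜']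

/-- restriction of scalars on bundled graded modules -/
@[reducible] noncomputable def resMod (Y : GrLC.GMod.{u} 𝒜') : Module R Y.carrier :=
  Module.compHom Y.carrier (algebraMap R S)

attribute [local instance] resMod

local instance (Y : GrLC.GMod.{u} 𝒜') : IsScalarTower R S Y.carrier :=
  IsScalarTower.of_algebraMap_smul fun _ _ => rfl

theorem gradedSMul_restrict (hf : ∀ j, ∀ r ∈ 𝒜 j, algebraMap R S r ∈ 𝒜' j) {M : Type u} [AddCommGroup M] [Module S M]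
    [Module R M] [IsScalarTower R S M] (ℳ : ℤ → AddSubgroup M) [SetLike.GradedSMul 𝒜' ℳ] :
    SetLike.GradedSMul 𝒜 ℳ :=
  ⟨fun {i j r x} hr hx => by
    rw [← algebraMap_smul S r x]
    exact SetLike.GradedSMul.smul_mem (A := 𝒜') (B := ℳ) (hf i r hr) hx⟩

/-- A graded module over `S` as a graded module over `R`. -/
noncomputable def resG (hf : ∀ j, ∀ r ∈ 𝒜 j, algebraMap R S r ∈ 𝒜' j) (Y : GrLC.GMod.{u} 𝒜') : GrLC.GMod.{u} 𝒜 :=
  { carrier := Y.carrier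
    mod := resMod Y
    gr := Y.gr
    gsmul := gradedSMul_restrict hf Y.gr }

variable {m : HomogeneousIdeal 𝒜} {m' : HomogeneousIdeal 𝒜'}

omit [GradedRing 𝒜'] in
theorem map_isHomogeneous (hf : ∀ j, ∀ r ∈ 𝒜 j, algebraMap R S r ∈ 𝒜' j) [GradedRing 𝒜']
    (hm : m.toIdeal = Ideal.span (⋃ n ∈ Set.Ioi (0 : ℤ), (𝒜 n : Set R))) :
    (m.toIdeal.map (algebraMap R S)).IsHomogeneous 𝒜' := by
  rw [hm, Ideal.map_span]
  refine Ideal.homogeneous_span 𝒜' _ ?_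
  rintro _ ⟨x, hx, rfl⟩
  obtain ⟨j, -, hxj⟩ := Set.mem_iUnion₂.1 hx
  exact ⟨j, hf j x hxj⟩

theorem map_le_irrelevant (hf : ∀ j, ∀ r ∈ 𝒜 j, algebraMap R S r ∈ 𝒜' j)
    (hm : m.toIdeal = Ideal.span (⋃ n ∈ Set.Ioi (0 : ℤ), (𝒜 n : Set R)))
    (hm' : m'.toIdeal = Ideal.span (⋃ j ∈ Set.Ioi (0 : ℤ), (𝒜' j : Set S))) :
    m.toIdeal.map (algebraMap R S) ≤ m'.toIdeal := by
  rw [hm, hm', Ideal.map_span]
  refine Ideal.span_mono ?_
  rintro _ ⟨x, hx, rfl⟩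
  obtain ⟨j, hj, hxj⟩ := Set.mem_iUnion₂.1 hx
  exact Set.mem_iUnion₂.2 ⟨j, hj, hf j x hxj⟩

theorem exists_pow_irrelevant_le [IsNoetherianRing S] [Module.Finite R S]
    (hf : ∀ j, ∀ r ∈ 𝒜 j, algebraMap R S r ∈ 𝒜' j)
    (hm : m.toIdeal = Ideal.span (⋃ n ∈ Set.Ioi (0 : ℤ), (𝒜 n : Set R)))
    (hm' : m'.toIdeal = Ideal.span (⋃ j ∈ Set.Ioi (0 : ℤ), (𝒜' j : Set S))) :
    ∃ N : ℕ, m'.toIdeal ^ N ≤ m.toIdeal.map (algebraMap R S) := by
  haveI : SetLike.GradedSMul 𝒜 𝒜' := gradedSMul_restrict hf 𝒜'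
  obtain ⟨t, deg, g, hg, hspan⟩ := exists_homog_gens 𝒜' (P := (⊤ : Submodule R S)) (fun _ _ _ => trivial) Module.Finite.fg_top
  refine Ideal.exists_pow_le_of_le_radical_of_fg ?_ (IsNoetherian.noetherian _)
  rw [hm', Ideal.span_le]
  intro s hs
  obtain ⟨j, hj, hsj⟩ := Set.mem_iUnion₂.1 hs
  obtain ⟨k, hk⟩ : ∃ k : ℕ, ∀ b, deg b < k * j := by
    refine ⟨(∑ b, (deg b).natAbs) + 1, fun b => ?_⟩
    have h1 : (deg b).natAbs ≤ ∑ b, (deg b).natAbs :=
      Finset.single_le_sum (f := fun b => (deg b).natAbs) (fun _ _ => Nat.zero_le _) (Finset.mem_univ b)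
    have h2 : (1 : ℤ) ≤ j := hj
    generalize (∑ b, (deg b).natAbs) = N at h1 ⊢
    have h3 : deg b < (N : ℤ) + 1 := by omega
    push_cast
    nlinarith
  have hpow : s ^ k ∈ 𝒜' ((k : ℤ) * j) := by
    rw [← nsmul_eq_mul]
    exact SetLike.pow_mem_graded k hsj
  refine ⟨k, ?_⟩
  obtain ⟨r, hr⟩ : ∃ r : Fin t → R, ∑ b, r b • g b = s ^ k :=
    (Submodule.mem_span_range_iff_exists_fun R).1 (hspan ▸ Submodule.mem_top)
  rw [← cp_same 𝒜' hpow, ← hr, map_sum]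
  refine Ideal.sum_mem _ fun b _ => ?_
  rw [cp_smul_mem 𝒜 𝒜' (r b) (hg b), Algebra.smul_def]
  refine Ideal.mul_mem_right _ _ (Ideal.mem_map_of_mem _ ?_)
  rw [hm]
  exact Ideal.subset_span (Set.mem_iUnion₂.2 ⟨_, sub_pos.2 (hk b), cp_mem 𝒜 _ _⟩)

variable [IsNoetherianRing R] [IsNoetherianRing S] [Module.Finite R S]
variable {M : Type u} [AddCommGroup M] [Module S M] [Module R M] [IsScalarTower R S M] {ℳ : ℤ → AddSubgroup M}
  [DirectSum.Decomposition ℳ] [SetLike.GradedSMul 𝒜 ℳ] [SetLike.GradedSMul 𝒜' ℳ]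

/-- `H_{m'}` over `S` is `H_m` over `R`. -/
theorem exists_restrictH (hf : ∀ j, ∀ r ∈ 𝒜 j, algebraMap R S r ∈ 𝒜' j)
    (hm : m.toIdeal = Ideal.span (⋃ n ∈ Set.Ioi (0 : ℤ), (𝒜 n : Set R)))
    (hm' : m'.toIdeal = Ideal.span (⋃ j ∈ Set.Ioi (0 : ℤ), (𝒜' j : Set S)))
    (E : GrLC.StarInjRes 𝒜' ℳ) (F : GrLC.StarInjRes 𝒜 ℳ) (p : ℕ) :
    ∃ Θ : F.H m p →ₛₗ[algebraMap R S] E.H m' p, Function.Bijective Θ ∧
      (∀ j, ∀ x ∈ F.Hgr m p j, Θ x ∈ E.Hgr m' p j) ∧ ∀ j x, Θ x ∈ E.Hgr m' p j → x ∈ F.Hgr m p j := by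
  obtain ⟨N, hN⟩ := exists_pow_irrelevant_le hf hm hm'
  have hgam : ∀ (Y : GrLC.GMod.{u} 𝒜') (y : Y.carrier),
      y ∈ GrLC.gam m.toIdeal Y.carrier ↔ y ∈ GrLC.gam m'.toIdeal Y.carrier := fun Y y => by
    rw [gam_congr (map_le_irrelevant hf hm hm') hN Y.carrier]
    exact exists_congr fun k => (Groth.L04.LC.pow_smul_eq_zero_iff_map m.toIdeal k y).symm
  have hac : ∀ n i, Subsingleton (LocCoh.H m.toIdeal (i + 1) (E.X n).carrier) := fun n i =>
    (Groth.L04.LC.subsingleton_H_map_iff (R' := S) m.toIdeal (i + 1) (E.X n).carrier).1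
      (subsingleton_H_of_starInj (E.starInj n) ⟨m.toIdeal.map (algebraMap R S), map_isHomogeneous hf hm⟩ i)
  let A : AcSeq m ℳ :=
    { Y := fun n => resG hf (E.X n)
      d := fun n => (E.d n).restrictScalars R
      ε :=
        { toFun := E.ε
          map_add' := E.ε.map_add
          map_smul' := fun r x => by
            rw [← algebraMap_smul S r x, E.ε.map_smul]
            rfl }
      d_grHom := fun n j x hx => E.d_grHom n j x hx
      ε_grHom := fun j x hx => E.ε_grHom j x hx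
      ε_injective := E.ε_injective
      exact_zero := by
        refine SetLike.ext fun x => ?_
        exact (SetLike.ext_iff.1 E.exact_zero x).trans Iff.rfl
      exact_succ := fun n => by
        refine SetLike.ext fun x => ?_
        exact (SetLike.ext_iff.1 (E.exact_succ n) x).trans Iff.rfl
      acyclic := hac }
  obtain ⟨c, hcs, hc0, hcg⟩ := A.exists_classMap F p
  let inY : (A.Y p).carrier → (E.X p).carrier := fun y => y
  have hmem : ∀ z : A.cocyc p, inY z.1 ∈ E.cocyc m' p := fun z =>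
    ⟨(hgam (E.X p) z.1).1 z.2.1, (z.2.2 : E.d p (inY z.1) = 0)⟩
  let Θ₀ : A.cocyc p → E.H m' p := fun z => E.toH m' p ⟨inY z.1, hmem z⟩
  have hsub : ∀ z z', Θ₀ (z - z') = Θ₀ z - Θ₀ z' := fun z z' => by
    rw [← map_sub]; rfl
  have hzero : ∀ z, c z = 0 ↔ Θ₀ z = 0 := fun z => by
    rw [hc0]
    refine Iff.trans ?_ (Submodule.Quotient.mk_eq_zero ((E.cobdy m' p).comap (E.cocyc m' p).subtype)).symm
    change _ ↔ inY z.1 ∈ E.cobdy m' p
    cases p with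
    | zero => exact Iff.rfl
    | succ n =>
      exact ⟨fun ⟨y, hy, hyz⟩ => ⟨y, (hgam (E.X n) y).1 hy, hyz⟩,
        fun ⟨y, hy, hyz⟩ => ⟨y, (hgam (E.X n) y).2 hy, hyz⟩⟩
  have hwd : ∀ z z', c z = c z' → Θ₀ z = Θ₀ z' := fun z z' e => by
    rw [← sub_eq_zero, ← hsub, ← hzero, map_sub, e, sub_self]
  let s : F.H m p → A.cocyc p := fun y => (hcs y).choose
  have hs : ∀ y, c (s y) = y := fun y => (hcs y).choose_spec
  let Θ : F.H m p →ₛₗ[algebraMap R S] E.H m' p :=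
    { toFun := fun y => Θ₀ (s y)
      map_add' := fun y y' => by
        refine (hwd _ (s y + s y') (by rw [map_add, hs, hs, hs])).trans ?_
        simp only [Θ₀]
        rw [← map_add]
        rfl
      map_smul' := fun r y => by
        refine (hwd _ (r • s y) (by rw [map_smul, hs, hs])).trans ?_
        simp only [Θ₀]
        rw [← map_smul]
        rfl }
  have hΘc : ∀ z, Θ (c z) = Θ₀ z := fun z => hwd _ _ (hs _)
  have hinj : Function.Injective Θ := (injective_iff_map_eq_zero _).2 fun y hy => by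
    rw [← hs y]
    exact (hzero _).2 hy
  have hh : (A.cocyc p).IsHomogeneous (A.Y p).gr := fun g x hx =>
    ⟨gam_isHomogeneous 𝒜 (A.Y p).gr m g hx.1, ker_isHomogeneous (A.Y p).gr (A.Y (p + 1)).gr (A.d_grHom p) g hx.2⟩
  letI := (Hgr_isInternal m F p).chooseDecomposition
  letI := (Hgr_isInternal m' E p).chooseDecomposition
  let C : GrLC.GMod.{u} 𝒜 := subG 𝒜 (A.Y p).gr (A.cocyc p) hh
  have hdeg : ∀ j, ∀ x ∈ F.Hgr m p j, Θ x ∈ E.Hgr m' p j := fun j x hx => by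
    obtain ⟨z, rfl⟩ := hcs x
    let zC : C.carrier := z
    let cC : C.carrier →+ F.H m p := c.toAddMonoidHom
    let zj : A.cocyc p := cp C.gr j zC
    have h1 : c zj = c z := by
      have h2 := cp_map C.gr (F.Hgr m p) cC (fun g w hw => hcg g w hw) j zC
      have h3 : cp (F.Hgr m p) j (cC zC) = c z := cp_same _ hx
      exact h2.symm.trans h3
    rw [← h1, hΘc]
    exact ⟨⟨inY zj.1, hmem zj⟩, (cp_mem C.gr j zC :), rfl⟩
  refine ⟨Θ, ⟨hinj, fun x => ?_⟩, hdeg, fun j x hx => ?_⟩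
  · obtain ⟨w, rfl⟩ := Submodule.Quotient.mk_surjective _ x
    exact ⟨c ⟨w.1, (hgam (E.X p) w.1).2 w.2.1, w.2.2⟩, hΘc _⟩
  · refine (mem_iff_cp (F.Hgr m p)).2 (hinj ?_)
    exact (cp_map (F.Hgr m p) (E.Hgr m' p) Θ.toAddMonoidHom hdeg j x).symm.trans (cp_same (E.Hgr m' p) hx)

end Groth.L04.Graded
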