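import Groth.Agent.L04.Graded.SerreLen
import Mathlib.Algebra.Polynomial.Roots

/-!
# Serre's formula for the Hilbert function
-/

set_option autoImplicit false
set_option maxHeartbeats 800000
universe u

open DirectSum Groth.L12.GrLCLib Polynomial

namespace Groth.L04.Graded

variable {R : Type u} [CommRing R] [IsNoetherianRing R] {𝒜 : ℤ → AddSubgroup R} [GradedRing 𝒜]
  [IsArtinianRing (GrLC.deg0 𝒜)] {m : HomogeneousIdeal 𝒜}

theorem eq_zero_of_eventually_zero {P : ℚ[X]} {N : ℤ} (h : ∀ g : ℤ, N ≤ g → P.eval (g : ℚ) = 0) : P = 0 :=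
  Polynomial.eq_zero_of_infinite_isRoot P (Set.Infinite.mono (s := (fun g : ℤ => (g : ℚ)) '' Set.Ici N)
    (by rintro _ ⟨g, hg, rfl⟩; exact h g hg)
    ((Set.Ici_infinite N).image Int.cast_injective.injOn))

variable {M : Type u} [AddCommGroup M] [Module R M] {ℳ : ℤ → AddSubgroup M} [DirectSum.Decomposition ℳ]
  [SetLike.GradedSMul 𝒜 ℳ]

theorem chi_torsion (d : ℕ) (E : GrLC.StarInjRes 𝒜 ℳ) (hM : GrLC.gam m.toIdeal M = ⊤) (g : ℤ) :
    chi m d E g = 0 := by
  obtain ⟨e, he⟩ := exists_H0_equiv m E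
  have h0 : len (GrLC.deg0 𝒜) (GrLC.comp 𝒜 ℳ g) = len (GrLC.deg0 𝒜) (E.Hcomp m 0 g) := by
    let F : GrLC.comp 𝒜 ℳ g →ₗ[GrLC.deg0 𝒜] E.Hcomp m 0 g :=
      { toFun := fun x => ⟨e ⟨x.1, hM ▸ Submodule.mem_top⟩, (he g ⟨x.1, hM ▸ Submodule.mem_top⟩).1 x.2⟩
        map_add' := fun x y => Subtype.ext (map_add e ⟨x.1, hM ▸ Submodule.mem_top⟩ ⟨y.1, hM ▸ Submodule.mem_top⟩)
        map_smul' := fun c x => Subtype.ext (map_smul e (c : R) ⟨x.1, hM ▸ Submodule.mem_top⟩) }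
    refine len_congr (LinearEquiv.ofBijective F ⟨fun x y h => Subtype.ext ?_, fun y => ?_⟩)
    · exact (congrArg Subtype.val (e.injective (congrArg Subtype.val h)) :)
    · obtain ⟨z, hz⟩ := e.surjective y.1
      have hzg : (z : M) ∈ ℳ g := (he g z).2 (hz.symm ▸ y.2)
      exact ⟨⟨z.1, hzg⟩, Subtype.ext hz⟩
  rw [chi, Finset.sum_range_succ' (fun i => (-1 : ℚ) ^ i * len (GrLC.deg0 𝒜) (E.Hcomp m i g)), Finset.sum_eq_zero fun i _ => ?_, h0, pow_zero, one_mul, zero_add, sub_self]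
  haveI := subsingleton_H_of_torsion E m hM (i + 1) i.succ_pos
  haveI : Subsingleton (E.Hcomp m (i + 1) g) := subsingleton_of_forall_eq 0 fun x => Subtype.ext (Subsingleton.elim _ _)
  rw [len_subsingleton, mul_zero]

variable (hpos : ∀ n : ℤ, n < 0 → 𝒜 n = ⊥) (hm : GrLC.IsStarLocal 𝒜 m)

include hpos hm in
theorem exists_chi_eq_len [Module.Finite R M] (d : ℕ) (E : GrLC.StarInjRes 𝒜 ℳ) :
    ∃ N : ℤ, ∀ g, N ≤ g → chi m d E g = len (GrLC.deg0 𝒜) (GrLC.comp 𝒜 ℳ g) := by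
  choose r hr using fun i => (good_starLocal m hpos hm i M ℳ ‹_›).1
  obtain ⟨N, hN⟩ := ((Finset.range (d + 1)).image r).bddAbove
  refine ⟨N, fun g hg => ?_⟩
  rw [chi, Finset.sum_eq_zero fun i hi => ?_, sub_zero]
  haveI : Subsingleton (E.Hcomp m i g) := subsingleton_of_forall_eq 0 fun x => Subtype.ext
    ((AddSubgroup.mem_bot).1 (hr i g ((hN (Finset.mem_image_of_mem r hi)).trans hg) E ▸ (x.2 : x.1 ∈ E.Hgr m i g)))
  rw [len_subsingleton, mul_zero]

include hpos hm in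
/-- Serre's formula. -/
theorem chi_eq_eval {d : ℕ} (hd : ringKrullDim R ≤ d) :
    ∀ (J : Ideal R) (M : GrLC.GMod.{u} 𝒜), Module.Finite R M.carrier → (∀ r ∈ J, ∀ x : M.carrier, r • x = 0) →
      ∀ (E : GrLC.StarInjRes 𝒜 M.gr) (P : ℚ[X]),
        (∃ N : ℤ, ∀ g : ℤ, N ≤ g → P.eval (g : ℚ) = len (GrLC.deg0 𝒜) (GrLC.comp 𝒜 M.gr g)) →
        ∀ g : ℤ, chi m d E g = P.eval (g : ℚ) := by
  intro J
  induction J using WellFoundedGT.induction with
  | _ J ih =>
    intro M hM hJ E P hP g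
    obtain ⟨N₀, hN₀⟩ := starLocal_pow_le_posIdeal hpos hm
    have hgam : ∀ (X : Type u) [AddCommGroup X] [Module R X],
        GrLC.gam m.toIdeal X = GrLC.gam (posIdeal 𝒜).toIdeal X := fun X _ _ => gam_congr (posIdeal_le hpos hm) hN₀ X
    let T := GrLC.gam m.toIdeal M.carrier
    let TG := subG 𝒜 M.gr T (gam_isHomogeneous 𝒜 M.gr m)
    let QG := quoG 𝒜 M.gr T (gam_isHomogeneous 𝒜 M.gr m)
    haveI hTf : Module.Finite R TG.carrier := inferInstanceAs (Module.Finite R T)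
    haveI hQf : Module.Finite R QG.carrier := inferInstanceAs (Module.Finite R (M.carrier ⧸ T))
    let ι₀ : TG.carrier →ₗ[R] M.carrier := T.subtype
    let π₀ : M.carrier →ₗ[R] QG.carrier := T.mkQ
    have hι : GrLC.IsGrHom TG.gr M.gr ι₀ := fun g x hx => hx
    have hπ : GrLC.IsGrHom M.gr QG.gr π₀ := fun g x hx => ⟨x, hx, rfl⟩
    have hTtop : GrLC.gam m.toIdeal TG.carrier = ⊤ := eq_top_iff.2 fun z _ => by
      obtain ⟨n, hn⟩ := (z : T).2
      exact ⟨n, fun c hc => Subtype.ext (hn c hc)⟩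
    obtain ⟨ET⟩ := nonempty_starInjRes 𝒜 TG.gr
    obtain ⟨EQ⟩ := nonempty_starInjRes 𝒜 QG.gr
    have hex : LinearMap.range ι₀ = LinearMap.ker π₀ := (Submodule.range_subtype _).trans (Submodule.ker_mkQ _).symm
    rw [chi_additive (f := ι₀) (π := π₀) hpos hm T.injective_subtype (Submodule.mkQ_surjective T) hex hι hπ hd ET E EQ,
      chi_torsion d ET hTtop, zero_add]
    -- `P` is the Hilbert polynomial of the torsion free quotient
    obtain ⟨hi, hhi⟩ := exists_bddAbove_gam (posIdeal 𝒜) rfl M.gr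
    obtain ⟨N, hN⟩ := hP
    have hPQ : ∀ g : ℤ, max N hi ≤ g → P.eval (g : ℚ) = len (GrLC.deg0 𝒜) (GrLC.comp 𝒜 QG.gr g) := fun g hg => by
      haveI : Subsingleton (GrLC.comp 𝒜 TG.gr g) := subsingleton_of_forall_eq 0 fun x =>
        Subtype.ext (Subtype.ext (hhi g (le_of_max_le_right hg) _ (hgam M.carrier ▸ (x.1 : T).2) x.2))
      rw [hN g (le_of_max_le_left hg), len_comp_additive (f := ι₀) (π := π₀) hpos T.injective_subtype
        (Submodule.mkQ_surjective T) hex hι hπ g, len_subsingleton (N := GrLC.comp 𝒜 TG.gr g), zero_add]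
    by_cases hQ : Subsingleton QG.carrier
    · have h0 : ∀ g, len (GrLC.deg0 𝒜) (GrLC.comp 𝒜 QG.gr g) = 0 := fun g => len_subsingleton
      rw [chi_torsion d EQ (eq_top_iff.2 fun z _ => by rw [@Subsingleton.elim _ hQ z 0]; exact zero_mem _),
        eq_zero_of_eventually_zero fun g hg => (hPQ g hg).trans (h0 g), Polynomial.eval_zero]
    haveI : Nontrivial QG.carrier := not_subsingleton_iff_nontrivial.1 hQ
    have hQ0 : GrLC.gam (posIdeal 𝒜).toIdeal QG.carrier = ⊥ := (hgam QG.carrier).symm.trans (gam_quot_gam_eq_bot m)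
    obtain ⟨e, y, he, hy, hreg⟩ := exists_homog_regular_pos (posIdeal 𝒜) rfl hQ0
    let Y := LinearMap.range (y • LinearMap.id : QG.carrier →ₗ[R] QG.carrier)
    have hY : Y.IsHomogeneous QG.gr := by
      intro g z hz
      obtain ⟨x, rfl⟩ := hz
      change cp QG.gr g (y • x) ∈ _
      rw [cp_smul_hom' 𝒜 QG.gr hy]
      exact ⟨_, rfl⟩
    let NG := quoG 𝒜 QG.gr Y hY
    haveI hNf : Module.Finite R NG.carrier := inferInstanceAs (Module.Finite R (QG.carrier ⧸ Y))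
    let SG := shG 𝒜 QG.gr (-(e : ℤ))
    haveI hSf : Module.Finite R SG.carrier := hQf
    let f : SG.carrier →ₗ[R] QG.carrier := (y • LinearMap.id : QG.carrier →ₗ[R] QG.carrier)
    have hfgr : GrLC.IsGrHom SG.gr QG.gr f := fun g x hx => by
      change y • (x : QG.carrier) ∈ QG.gr g
      have h := smul_mem' 𝒜 QG.gr hy (show (x : QG.carrier) ∈ QG.gr (g + -(e : ℤ)) from hx)
      rwa [show (e : ℤ) + (g + -(e : ℤ)) = g from by ring] at h
    let ψ₀ : QG.carrier →ₗ[R] NG.carrier := Y.mkQ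
    have hψ₀ : GrLC.IsGrHom QG.gr NG.gr ψ₀ := fun g x hx => ⟨x, hx, rfl⟩
    have hπs : Function.Surjective π₀ := Submodule.mkQ_surjective T
    have hψs : Function.Surjective ψ₀ := Submodule.mkQ_surjective Y
    obtain ⟨EN⟩ := nonempty_starInjRes 𝒜 NG.gr
    -- the Hilbert polynomial of the quotient
    let P' : ℚ[X] := P - P.comp (X - C (e : ℚ))
    have hP' : ∀ g : ℤ, P'.eval (g : ℚ) = P.eval (g : ℚ) - P.eval ((g - e : ℤ) : ℚ) := fun g => by
      simp [P', Polynomial.eval_comp]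
    have hPN : ∃ N' : ℤ, ∀ g : ℤ, N' ≤ g → P'.eval (g : ℚ) = len (GrLC.deg0 𝒜) (GrLC.comp 𝒜 NG.gr g) :=
      ⟨max N hi + e, fun g hg => by
        rw [hP', hPQ g (by omega), hPQ (g - e) (by omega),
          len_comp_additive (f := f) (π := ψ₀) hpos hreg (Submodule.mkQ_surjective Y) (Submodule.ker_mkQ Y).symm hfgr hψ₀ g,
          len_comp_shift, ← sub_eq_add_neg, add_sub_cancel_left]⟩
    have hlt : J < J ⊔ Ideal.span {y} := by
      refine lt_of_le_of_ne le_sup_left fun heq => ?_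
      have hyJ : y ∈ J := by
        rw [heq]
        exact Ideal.mem_sup_right (Ideal.mem_span_singleton_self y)
      obtain ⟨x, hx⟩ := exists_ne (0 : QG.carrier)
      refine hx (hreg ?_)
      change y • x = y • 0
      obtain ⟨v, rfl⟩ := hπs x
      rw [smul_zero, ← map_smul, hJ y hyJ v, map_zero]
    have hJN : ∀ r ∈ J ⊔ Ideal.span {y}, ∀ x : NG.carrier, r • x = 0 := fun r hr x => by
      obtain ⟨a, ha, b, hb, rfl⟩ := Submodule.mem_sup.1 hr
      obtain ⟨c, rfl⟩ := Ideal.mem_span_singleton'.1 hb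
      obtain ⟨v, rfl⟩ := hψs x
      obtain ⟨w, rfl⟩ := hπs v
      rw [← map_smul, add_smul, map_add, ← map_smul π₀ a, hJ a ha w,
        map_zero, map_zero, zero_add, mul_smul, smul_comm]
      exact (Submodule.Quotient.mk_eq_zero Y).2 ⟨c • π₀ w, rfl⟩
    have hstep : ∀ g : ℤ, chi m d EQ g - P.eval (g : ℚ) = chi m d EQ (g - e) - P.eval ((g - e : ℤ) : ℚ) := fun g => by
      have h := chi_additive (f := f) (π := ψ₀) hpos hm hreg (Submodule.mkQ_surjective Y) (Submodule.ker_mkQ Y).symm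
        hfgr hψ₀ hd (shiftRes EQ (-(e : ℤ))) EQ EN g
      rw [ih _ hlt NG hNf hJN EN P' hPN g, hP', chi_shift d EQ (-(e : ℤ)) g, ← sub_eq_add_neg g (e : ℤ)] at h
      linarith
    obtain ⟨N₁, hN₁⟩ := exists_chi_eq_len (ℳ := QG.gr) hpos hm d EQ
    have hper : ∀ (k : ℕ) (g : ℤ), chi m d EQ g - P.eval (g : ℚ) =
        chi m d EQ (g + k * e) - P.eval ((g + k * e : ℤ) : ℚ) := by
      intro k
      induction k with
      | zero => intro g; simp
      | succ k ihk =>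
        intro g
        rw [ihk g, hstep (g + ((k + 1 : ℕ) : ℤ) * e), show g + ((k + 1 : ℕ) : ℤ) * e - e = g + k * e by push_cast; ring]
    obtain ⟨k, hk⟩ : ∃ k : ℕ, max (max N hi) N₁ ≤ g + k * e := by
      refine ⟨(max (max N hi) N₁ - g).toNat, ?_⟩
      have h1 : ((max (max N hi) N₁ - g).toNat : ℤ) ≤ ((max (max N hi) N₁ - g).toNat : ℤ) * e :=
        le_mul_of_one_le_right (by omega) (by exact_mod_cast he)
      omega
    have h := hper k g
    rw [hN₁ _ (le_of_max_le_right hk), hPQ _ (le_of_max_le_left hk)] at h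
    linarith

end Groth.L04.Graded
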