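import Groth.Agent.L04.Graded.SerreFormula

/-!
# Serre's formula for modules with pieces of finite length
-/

set_option autoImplicit false
set_option maxHeartbeats 800000
universe u

open DirectSum Groth.L12.GrLCLib Polynomial

namespace Groth.L04.Graded

section LenF

variable {A : Type u} [CommRing A]
variable {N P Q : Type u} [AddCommGroup N] [Module A N] [AddCommGroup P] [Module A P] [AddCommGroup Q] [Module A Q]

theorem fl_exact {f : N →ₗ[A] P} {g : P →ₗ[A] Q} (h : Function.Exact f g) (hN : IsFiniteLength A N)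
    (hQ : IsFiniteLength A Q) : IsFiniteLength A P := by
  rw [isFiniteLength_iff_isNoetherian_isArtinian] at hN hQ ⊢
  obtain ⟨hN₁, hN₂⟩ := hN
  obtain ⟨hQ₁, hQ₂⟩ := hQ
  exact ⟨isNoetherian_of_range_eq_ker f g h.linearMap_ker_eq.symm,
    isArtinian_of_range_eq_ker f g h.linearMap_ker_eq.symm⟩

theorem fl_of_subsingleton [Subsingleton N] : IsFiniteLength A N := IsFiniteLength.of_subsingleton

theorem fl_range {f : N →ₗ[A] P} (hN : IsFiniteLength A N) : IsFiniteLength A (LinearMap.range f) := by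
  rw [isFiniteLength_iff_isNoetherian_isArtinian] at hN ⊢
  obtain ⟨hN₁, hN₂⟩ := hN
  exact ⟨isNoetherian_range f, isArtinian_range f⟩

theorem fl_ker {f : N →ₗ[A] P} (hN : IsFiniteLength A N) : IsFiniteLength A (LinearMap.ker f) :=
  hN.of_injective (LinearMap.ker f).injective_subtype

theorem lenF_ker_add_range (hN : IsFiniteLength A N) (f : N →ₗ[A] P) :
    len A N = len A (LinearMap.ker f) + len A (LinearMap.range f) := by
  have h := Module.length_eq_add_of_exact (LinearMap.ker f).subtype f.rangeRestrict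
    (Submodule.subtype_injective _) f.surjective_rangeRestrict
    (LinearMap.exact_iff.2 (by rw [LinearMap.ker_rangeRestrict, Submodule.range_subtype]))
  rw [len, len, len, h, ENat.toNat_add (Module.length_ne_top_iff.2 (fl_ker hN))
    (Module.length_ne_top_iff.2 (fl_range hN)), Nat.cast_add]

theorem lenF_exact (hP : IsFiniteLength A P) {f : N →ₗ[A] P} {g : P →ₗ[A] Q} (h : Function.Exact f g) :
    len A P = len A (LinearMap.range f) + len A (LinearMap.range g) := by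
  rw [lenF_ker_add_range hP g]
  congr 1
  rw [len, len, (LinearEquiv.ofEq _ _ h.linearMap_ker_eq).length_eq]

/-- Lengths do not change along surjective changes of rings. -/
theorem length_eq_of_semilinear {B : Type u} [CommRing B] {σ : A →+* B} [RingHomSurjective σ] {P' : Type u}
    [AddCommGroup P'] [Module B P'] (e : N →ₛₗ[σ] P') (he : Function.Bijective e) :
    Module.length A N = Module.length B P' := by
  refine WithBot.coe_injective ?_
  rw [Module.coe_length, Module.coe_length]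
  exact Order.krullDim_eq_of_orderIso
    { toFun := Submodule.map e
      invFun := Submodule.comap e
      left_inv := fun p => Submodule.comap_map_eq_of_injective he.1 p
      right_inv := fun p => Submodule.map_comap_eq_of_surjective he.2 p
      map_rel_iff' := fun {p q} => Submodule.map_le_map_iff_of_injective he.1 p q }

theorem fl_of_semilinear {B : Type u} [CommRing B] {σ : A →+* B} [RingHomSurjective σ] {P' : Type u}
    [AddCommGroup P'] [Module B P'] (e : N →ₛₗ[σ] P') (he : Function.Bijective e) (hN : IsFiniteLength A N) :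
    IsFiniteLength B P' :=
  Module.length_ne_top_iff.1 (length_eq_of_semilinear e he ▸ Module.length_ne_top_iff.2 hN)

theorem fl_of_semilinear' {B : Type u} [CommRing B] {σ : A →+* B} [RingHomSurjective σ] {P' : Type u}
    [AddCommGroup P'] [Module B P'] (e : N →ₛₗ[σ] P') (he : Function.Bijective e) (hP : IsFiniteLength B P') :
    IsFiniteLength A N :=
  Module.length_ne_top_iff.1 ((length_eq_of_semilinear e he).symm ▸ Module.length_ne_top_iff.2 hP)

end LenF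

variable {R : Type u} [CommRing R] [IsNoetherianRing R] {𝒜 : ℤ → AddSubgroup R} [GradedRing 𝒜]
variable (a : HomogeneousIdeal 𝒜) (ha : a.toIdeal = Ideal.span (⋃ n ∈ Set.Ioi (0 : ℤ), (𝒜 n : Set R)))
variable {M : Type u} [AddCommGroup M] [Module R M] {ℳ : ℤ → AddSubgroup M} [DirectSum.Decomposition ℳ]
  [SetLike.GradedSMul 𝒜 ℳ]

include ha in
/-- If the pieces of `M` have finite length, so do those of its local cohomology. -/
theorem fl_Hcomp [Module.Finite R M] (hfl : ∀ g, IsFiniteLength (GrLC.deg0 𝒜) (GrLC.comp 𝒜 ℳ g))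
    (E : GrLC.StarInjRes 𝒜 ℳ) (i : ℕ) (g : ℤ) : IsFiniteLength (GrLC.deg0 𝒜) (E.Hcomp a i g) := by
  classical
  haveI := (bound_and_finite a ha i M ℳ ‹_›).2 E g
  obtain ⟨t, deg, x, hx, hspan⟩ := exists_homog_gens ℳ (P := (⊤ : Submodule R M)) (fun _ _ _ => trivial) Module.Finite.fg_top
  let φ : GrLC.deg0 𝒜 →ₗ[GrLC.deg0 𝒜] ((b : Fin t) → GrLC.comp 𝒜 ℳ (deg b)) :=
    LinearMap.pi fun b => LinearMap.toSpanSingleton _ _ ⟨x b, hx b⟩
  haveI : ∀ b, IsArtinian (GrLC.deg0 𝒜) (GrLC.comp 𝒜 ℳ (deg b)) := fun b =>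
    (isFiniteLength_iff_isNoetherian_isArtinian.1 (hfl (deg b))).2
  haveI : IsArtinian (GrLC.deg0 𝒜) (GrLC.deg0 𝒜 ⧸ LinearMap.ker φ) :=
    isArtinian_of_injective (φ.quotKerEquivRange.toLinearMap) φ.quotKerEquivRange.injective
  have hkill : ∀ c ∈ LinearMap.ker φ, ∀ z : E.Hcomp a i g, c • z = 0 := fun c hc z => by
    have hcM : ∀ m : M, (c : R) • m = 0 := fun m => by
      obtain ⟨y, hy⟩ := (Submodule.mem_span_range_iff_exists_fun R).1 (hspan ▸ Submodule.mem_top (x := m))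
      rw [← hy, Finset.smul_sum]
      refine Finset.sum_eq_zero fun b _ => ?_
      have h1 : (c : R) • x b = 0 := congrArg Subtype.val (congrFun (LinearMap.mem_ker.1 hc) b)
      rw [smul_comm, h1, smul_zero]
    have hmap : IsMap E E 0 fun n => ((c : R) • LinearMap.id : (E.X n).carrier →ₗ[R] (E.X n).carrier) :=
      { gr := fun n j w hw => by
          have := smul_mem' 𝒜 (E.X n).gr (show (c : R) ∈ 𝒜 0 from c.2) hw
          rwa [zero_add] at this
        aug := LinearMap.ext fun w => by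
          change (c : R) • E.ε w = E.ε 0
          rw [← map_smul, hcM]
        comm := fun n => LinearMap.ext fun w => map_smul (E.d n) (c : R) w }
    obtain ⟨w, hw⟩ := Submodule.Quotient.mk_surjective _ z.1
    refine Subtype.ext ?_
    change (c : R) • z.1 = 0
    rw [← hw]
    exact LinearMap.congr_fun (hmap.Hmap_eq_zero a i) (E.toH a i w)
  obtain ⟨k, y, hy⟩ := Submodule.fg_iff_exists_fin_generating_family.1
    (IsNoetherian.noetherian (⊤ : Submodule (GrLC.deg0 𝒜) (E.Hcomp a i g)))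
  let L : (Fin k → GrLC.deg0 𝒜 ⧸ LinearMap.ker φ) →ₗ[GrLC.deg0 𝒜] E.Hcomp a i g :=
    ∑ l, ((LinearMap.ker φ).liftQ (LinearMap.toSpanSingleton _ _ (y l))
      (fun c hc => LinearMap.mem_ker.2 (hkill c hc (y l)))) ∘ₗ LinearMap.proj l
  haveI : IsArtinian (GrLC.deg0 𝒜) (E.Hcomp a i g) := isArtinian_of_surjective _ L fun z => by
    obtain ⟨r, hr⟩ := (Submodule.mem_span_range_iff_exists_fun _).1 (hy ▸ Submodule.mem_top (x := z))
    exact ⟨fun l => Submodule.Quotient.mk (r l), (LinearMap.sum_apply _ _ _).trans hr⟩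
  exact isFiniteLength_iff_isNoetherian_isArtinian.2 ⟨inferInstance, inferInstance⟩

variable {M₁ : Type u} [AddCommGroup M₁] [Module R M₁] {ℳ₁ : ℤ → AddSubgroup M₁} [DirectSum.Decomposition ℳ₁]
  [SetLike.GradedSMul 𝒜 ℳ₁]
variable {M₃ : Type u} [AddCommGroup M₃] [Module R M₃] {ℳ₃ : ℤ → AddSubgroup M₃} [DirectSum.Decomposition ℳ₃]
  [SetLike.GradedSMul 𝒜 ℳ₃]
variable {f : M₁ →ₗ[R] M} {π : M →ₗ[R] M₃} (hf : Function.Injective f)
  (hπ : Function.Surjective π) (hfπ : LinearMap.range f = LinearMap.ker π) (hfgr : GrLC.IsGrHom ℳ₁ ℳ f)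
  (hπgr : GrLC.IsGrHom ℳ ℳ₃ π)

omit [IsNoetherianRing R] in
include hf hπ hfπ hfgr hπgr in
theorem exact_pieceMap (g : ℤ) :
    Function.Injective (pieceMap (𝒜 := 𝒜) f (hfgr g)) ∧ Function.Surjective (pieceMap (𝒜 := 𝒜) π (hπgr g)) ∧
      Function.Exact (pieceMap (𝒜 := 𝒜) f (hfgr g)) (pieceMap (𝒜 := 𝒜) π (hπgr g)) := by
  refine ⟨fun x y h => Subtype.ext (hf (congrArg Subtype.val h)), fun y => ?_, fun y => ⟨fun hy => ?_, ?_⟩⟩
  · obtain ⟨x, hx⟩ := hπ y.1
    refine ⟨⟨cp ℳ g x, cp_mem ℳ g x⟩, Subtype.ext ?_⟩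
    change π (cp ℳ g x) = y.1
    rw [show π (cp ℳ g x) = cp ℳ₃ g (π x) from (cp_map ℳ ℳ₃ π.toAddMonoidHom hπgr g x).symm, hx]
    exact cp_same ℳ₃ y.2
  · obtain ⟨x, hx⟩ : y.1 ∈ LinearMap.range f := hfπ ▸ LinearMap.mem_ker.2 (congrArg Subtype.val hy)
    refine ⟨⟨cp ℳ₁ g x, cp_mem ℳ₁ g x⟩, Subtype.ext ?_⟩
    change f (cp ℳ₁ g x) = y.1
    rw [show f (cp ℳ₁ g x) = cp ℳ g (f x) from (cp_map ℳ₁ ℳ f.toAddMonoidHom hfgr g x).symm, hx]
    exact cp_same ℳ y.2
  · rintro ⟨x, rfl⟩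
    exact Subtype.ext (show π (f x.1) = 0 from LinearMap.mem_ker.1 ((SetLike.ext_iff.1 hfπ _).1 (LinearMap.mem_range_self f x.1)))

omit [IsNoetherianRing R] in
include hf hπ hfπ hfgr hπgr in
theorem fl_sub_quot (hfl : ∀ g, IsFiniteLength (GrLC.deg0 𝒜) (GrLC.comp 𝒜 ℳ g)) :
    (∀ g, IsFiniteLength (GrLC.deg0 𝒜) (GrLC.comp 𝒜 ℳ₁ g)) ∧
      (∀ g, IsFiniteLength (GrLC.deg0 𝒜) (GrLC.comp 𝒜 ℳ₃ g)) ∧
      ∀ g, len (GrLC.deg0 𝒜) (GrLC.comp 𝒜 ℳ g) =
        len (GrLC.deg0 𝒜) (GrLC.comp 𝒜 ℳ₁ g) + len (GrLC.deg0 𝒜) (GrLC.comp 𝒜 ℳ₃ g) := by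
  refine ⟨fun g => (hfl g).of_injective (exact_pieceMap hf hπ hfπ hfgr hπgr g).1,
    fun g => (hfl g).of_surjective (exact_pieceMap hf hπ hfπ hfgr hπgr g).2.1, fun g => ?_⟩
  obtain ⟨h1, h2, h3⟩ := exact_pieceMap (𝒜 := 𝒜) hf hπ hfπ hfgr hπgr g
  rw [lenF_exact (hfl g) h3]
  congr 1
  · exact congrArg (fun k : ℕ∞ => (k.toNat : ℚ)) (LinearEquiv.ofInjective _ h1).length_eq.symm
  · rw [len, len, (LinearEquiv.ofTop _ (LinearMap.range_eq_top.2 h2)).length_eq]

include hf hπ hfπ hfgr hπgr in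
/-- The alternating sums of lengths are additive. -/
theorem sum_additive (d : ℕ) (g : ℤ) (hcd : Van a ℳ₁ (d + 1) g) (E₁ : GrLC.StarInjRes 𝒜 ℳ₁)
    (E : GrLC.StarInjRes 𝒜 ℳ) (E₃ : GrLC.StarInjRes 𝒜 ℳ₃)
    (h₁ : ∀ i, IsFiniteLength (GrLC.deg0 𝒜) (E₁.Hcomp a i g))
    (h₃ : ∀ i, IsFiniteLength (GrLC.deg0 𝒜) (E₃.Hcomp a i g)) :
    (∀ i, IsFiniteLength (GrLC.deg0 𝒜) (E.Hcomp a i g)) ∧
    ∑ i ∈ Finset.range (d + 1), (-1 : ℚ) ^ i * len (GrLC.deg0 𝒜) (E.Hcomp a i g) =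
      (∑ i ∈ Finset.range (d + 1), (-1 : ℚ) ^ i * len (GrLC.deg0 𝒜) (E₁.Hcomp a i g)) +
        ∑ i ∈ Finset.range (d + 1), (-1 : ℚ) ^ i * len (GrLC.deg0 𝒜) (E₃.Hcomp a i g) := by
  obtain ⟨φ, hφ⟩ := exists_map E₁ E f hfgr
  obtain ⟨ψ, hψ⟩ := exists_map E E₃ π hπgr
  obtain ⟨δ, hδ, hx1, hx2, hx3, hx0⟩ := exists_les E₁ E E₃ a hf hπ hfπ hfgr hπgr hφ hψ
  let F := fun i => compMap (hφ.Hmap a i) (hφ.Hmap_grHom a i g)
  let G := fun i => compMap (hψ.Hmap a i) (hψ.Hmap_grHom a i g)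
  let D := fun i => compMap (δ i) (hδ i g)
  have e1 : ∀ i, Function.Exact (F i) (G i) := fun i y => by
    refine ⟨fun hy => ?_, ?_⟩
    · obtain ⟨z, hz, hzy⟩ := exists_preimage a (hφ.Hmap a i) (hφ.Hmap_grHom a i) y.2 ((hx1 i y.1).1 (congrArg Subtype.val hy))
      exact ⟨⟨z, hz⟩, Subtype.ext hzy⟩
    · rintro ⟨z, rfl⟩
      exact Subtype.ext ((hx1 i _).2 ⟨z.1, rfl⟩)
  have e2 : ∀ i, Function.Exact (G i) (D i) := fun i y => by
    refine ⟨fun hy => ?_, ?_⟩
    · obtain ⟨z, hz, hzy⟩ := exists_preimage a (hψ.Hmap a i) (hψ.Hmap_grHom a i) y.2 ((hx2 i y.1).1 (congrArg Subtype.val hy))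
      exact ⟨⟨z, hz⟩, Subtype.ext hzy⟩
    · rintro ⟨z, rfl⟩
      exact Subtype.ext ((hx2 i _).2 ⟨z.1, rfl⟩)
  have e3 : ∀ i, Function.Exact (D i) (F (i + 1)) := fun i y => by
    refine ⟨fun hy => ?_, ?_⟩
    · obtain ⟨z, hz, hzy⟩ := exists_preimage a (δ i) (hδ i) y.2 ((hx3 i y.1).1 (congrArg Subtype.val hy))
      exact ⟨⟨z, hz⟩, Subtype.ext hzy⟩
    · rintro ⟨z, rfl⟩
      exact Subtype.ext ((hx3 i _).2 ⟨z.1, rfl⟩)
  have h2 : ∀ i, IsFiniteLength (GrLC.deg0 𝒜) (E.Hcomp a i g) := fun i => fl_exact (e1 i) (h₁ i) (h₃ i)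
  have hd0 : len (GrLC.deg0 𝒜) (LinearMap.range (D d)) = 0 := by
    haveI : Subsingleton (E₁.Hcomp a (d + 1) g) := subsingleton_of_forall_eq 0 fun x => Subtype.ext
      ((AddSubgroup.mem_bot).1 (hcd E₁ ▸ (x.2 : x.1 ∈ E₁.Hgr a (d + 1) g)))
    exact len_subsingleton
  exact ⟨h2, alternating_sum (fun i => len (GrLC.deg0 𝒜) (E₁.Hcomp a i g)) (fun i => len (GrLC.deg0 𝒜) (E.Hcomp a i g))
    (fun i => len (GrLC.deg0 𝒜) (E₃.Hcomp a i g)) (fun i => len (GrLC.deg0 𝒜) (LinearMap.range (F i)))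
    (fun i => len (GrLC.deg0 𝒜) (LinearMap.range (G i))) (fun i => len (GrLC.deg0 𝒜) (LinearMap.range (D i))) d
    (congrArg (fun k : ℕ∞ => (k.toNat : ℚ))
      (LinearEquiv.ofInjective (F 0) fun x y h => Subtype.ext (hx0 (congrArg Subtype.val h))).length_eq)
    (fun i => lenF_exact (h₁ (i + 1)) (e3 i)) (fun i => lenF_exact (h2 i) (e1 i)) (fun i => lenF_exact (h₃ i) (e2 i)) hd0⟩

include ha in
/-- Serre's formula for modules with pieces of finite length. -/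
theorem chi_eq_eval' {d : ℕ} (hcd : ∀ (N : GrLC.GMod.{u} 𝒜) (i : ℕ) (g : ℤ), d < i → Van a N.gr i g) :
    ∀ (J : Ideal R) (M : GrLC.GMod.{u} 𝒜), Module.Finite R M.carrier →
      (∀ g, IsFiniteLength (GrLC.deg0 𝒜) (GrLC.comp 𝒜 M.gr g)) → (∀ r ∈ J, ∀ x : M.carrier, r • x = 0) →
      ∀ (E : GrLC.StarInjRes 𝒜 M.gr) (P : ℚ[X]),
        (∃ N : ℤ, ∀ g : ℤ, N ≤ g → P.eval (g : ℚ) = len (GrLC.deg0 𝒜) (GrLC.comp 𝒜 M.gr g)) →
        ∀ g : ℤ, chi a d E g = P.eval (g : ℚ) := by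
  intro J
  induction J using WellFoundedGT.induction with
  | _ J ih =>
    intro M hM hfl hJ E P hP g
    let T := GrLC.gam a.toIdeal M.carrier
    let TG := subG 𝒜 M.gr T (gam_isHomogeneous 𝒜 M.gr a)
    let QG := quoG 𝒜 M.gr T (gam_isHomogeneous 𝒜 M.gr a)
    haveI hTf : Module.Finite R TG.carrier := inferInstanceAs (Module.Finite R T)
    haveI hQf : Module.Finite R QG.carrier := inferInstanceAs (Module.Finite R (M.carrier ⧸ T))
    let ι₀ : TG.carrier →ₗ[R] M.carrier := T.subtype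
    let π₀ : M.carrier →ₗ[R] QG.carrier := T.mkQ
    have hι : GrLC.IsGrHom TG.gr M.gr ι₀ := fun g x hx => hx
    have hπ : GrLC.IsGrHom M.gr QG.gr π₀ := fun g x hx => ⟨x, hx, rfl⟩
    have hTtop : GrLC.gam a.toIdeal TG.carrier = ⊤ := eq_top_iff.2 fun z _ => by
      obtain ⟨n, hn⟩ := (z : T).2
      exact ⟨n, fun c hc => Subtype.ext (hn c hc)⟩
    obtain ⟨ET⟩ := nonempty_starInjRes 𝒜 TG.gr
    obtain ⟨EQ⟩ := nonempty_starInjRes 𝒜 QG.gr
    have hex : LinearMap.range ι₀ = LinearMap.ker π₀ := (Submodule.range_subtype _).trans (Submodule.ker_mkQ _).symm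
    have hπs : Function.Surjective π₀ := Submodule.mkQ_surjective T
    obtain ⟨flT, flQ, hlenM⟩ := fl_sub_quot (f := ι₀) (π := π₀) T.injective_subtype hπs hex hι hπ hfl
    have torsion_zero : ∀ (N : GrLC.GMod.{u} 𝒜) (EN : GrLC.StarInjRes 𝒜 N.gr),
        GrLC.gam a.toIdeal N.carrier = ⊤ → ∀ g, chi a d EN g = 0 := fun N EN hN g => by
      obtain ⟨e, he⟩ := exists_H0_equiv a EN
      let F : GrLC.comp 𝒜 N.gr g →ₗ[GrLC.deg0 𝒜] EN.Hcomp a 0 g :=
        { toFun := fun x => ⟨e ⟨x.1, hN ▸ Submodule.mem_top⟩, (he g ⟨x.1, hN ▸ Submodule.mem_top⟩).1 x.2⟩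
          map_add' := fun x y => Subtype.ext (map_add e ⟨x.1, hN ▸ Submodule.mem_top⟩ ⟨y.1, hN ▸ Submodule.mem_top⟩)
          map_smul' := fun c x => Subtype.ext (map_smul e (c : R) ⟨x.1, hN ▸ Submodule.mem_top⟩) }
      have hF : Function.Bijective F := ⟨fun x y h => Subtype.ext
          ((congrArg Subtype.val (e.injective (congrArg Subtype.val h)) :)), fun y => by
        obtain ⟨z, hz⟩ := e.surjective y.1
        have hzg : (z : N.carrier) ∈ N.gr g := (he g z).2 (hz.symm ▸ y.2)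
        exact ⟨⟨z.1, hzg⟩, Subtype.ext hz⟩⟩
      have h0 : len (GrLC.deg0 𝒜) (GrLC.comp 𝒜 N.gr g) = len (GrLC.deg0 𝒜) (EN.Hcomp a 0 g) := by
        rw [len, len, (LinearEquiv.ofBijective F hF).length_eq]
      rw [chi, Finset.sum_range_succ' (fun i => (-1 : ℚ) ^ i * len (GrLC.deg0 𝒜) (EN.Hcomp a i g)),
        Finset.sum_eq_zero fun i _ => ?_, h0, pow_zero, one_mul, zero_add, sub_self]
      haveI := subsingleton_H_of_torsion EN a hN (i + 1) i.succ_pos
      haveI : Subsingleton (EN.Hcomp a (i + 1) g) := subsingleton_of_forall_eq 0 fun x => Subtype.ext (Subsingleton.elim _ _)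
      rw [len_subsingleton, mul_zero]
    have hadd : chi a d E g = chi a d ET g + chi a d EQ g := by
      rw [chi, chi, chi, (sum_additive a (f := ι₀) (π := π₀) T.injective_subtype hπs hex hι hπ d g
        (hcd TG (d + 1) g (Nat.lt_succ_self d)) ET E EQ (fun i => fl_Hcomp a ha flT ET i g)
        (fun i => fl_Hcomp a ha flQ EQ i g)).2, hlenM g]
      ring
    rw [hadd, torsion_zero TG ET hTtop, zero_add]
    obtain ⟨hi, hhi⟩ := exists_bddAbove_gam a ha M.gr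
    obtain ⟨N, hN⟩ := hP
    have hPQ : ∀ g : ℤ, max N hi ≤ g → P.eval (g : ℚ) = len (GrLC.deg0 𝒜) (GrLC.comp 𝒜 QG.gr g) := fun g hg => by
      haveI : Subsingleton (GrLC.comp 𝒜 TG.gr g) := subsingleton_of_forall_eq 0 fun x =>
        Subtype.ext (Subtype.ext (hhi g (le_of_max_le_right hg) _ (x.1 : T).2 x.2))
      rw [hN g (le_of_max_le_left hg), hlenM g, len_subsingleton (N := GrLC.comp 𝒜 TG.gr g), zero_add]
    by_cases hQ : Subsingleton QG.carrier
    · have h0 : ∀ g, len (GrLC.deg0 𝒜) (GrLC.comp 𝒜 QG.gr g) = 0 := fun g => len_subsingleton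
      rw [torsion_zero QG EQ (eq_top_iff.2 fun z _ => by rw [@Subsingleton.elim _ hQ z 0]; exact zero_mem _),
        eq_zero_of_eventually_zero fun g hg => (hPQ g hg).trans (h0 g), Polynomial.eval_zero]
    haveI : Nontrivial QG.carrier := not_subsingleton_iff_nontrivial.1 hQ
    have hQ0 : GrLC.gam a.toIdeal QG.carrier = ⊥ := gam_quot_gam_eq_bot a
    obtain ⟨e, y, he, hy, hreg⟩ := exists_homog_regular_pos a ha hQ0
    let Y := LinearMap.range (y • LinearMap.id : QG.carrier →ₗ[R] QG.carrier)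
    have hY : Y.IsHomogeneous QG.gr := by
      intro g z hz
      obtain ⟨x, rfl⟩ := hz
      change cp QG.gr g (y • x) ∈ _
      rw [cp_smul_hom' 𝒜 QG.gr hy]
      exact ⟨_, rfl⟩
    let NG := quoG 𝒜 QG.gr Y hY
    haveI hNf : Module.Finite R NG.carrier := inferInstanceAs (Module.Finite R (QG.carrier ⧸ Y))
    let SG := shG 𝒜 QG.gr (-(e : ℤ))
    haveI hSf : Module.Finite R SG.carrier := hQf
    let f : SG.carrier →ₗ[R] QG.carrier := (y • LinearMap.id : QG.carrier →ₗ[R] QG.carrier)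
    have hfgr : GrLC.IsGrHom SG.gr QG.gr f := fun g x hx => by
      change y • (x : QG.carrier) ∈ QG.gr g
      have h := smul_mem' 𝒜 QG.gr hy (show (x : QG.carrier) ∈ QG.gr (g + -(e : ℤ)) from hx)
      rwa [show (e : ℤ) + (g + -(e : ℤ)) = g from by ring] at h
    let ψ₀ : QG.carrier →ₗ[R] NG.carrier := Y.mkQ
    have hψ₀ : GrLC.IsGrHom QG.gr NG.gr ψ₀ := fun g x hx => ⟨x, hx, rfl⟩
    have hψs : Function.Surjective ψ₀ := Submodule.mkQ_surjective Y
    obtain ⟨EN⟩ := nonempty_starInjRes 𝒜 NG.gr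
    obtain ⟨flS, flN, hlenQ⟩ := fl_sub_quot (f := f) (π := ψ₀) hreg hψs (Submodule.ker_mkQ Y).symm hfgr hψ₀ flQ
    let P' : ℚ[X] := P - P.comp (X - C (e : ℚ))
    have hP' : ∀ g : ℤ, P'.eval (g : ℚ) = P.eval (g : ℚ) - P.eval ((g - e : ℤ) : ℚ) := fun g => by
      simp [P', Polynomial.eval_comp]
    have hPN : ∃ N' : ℤ, ∀ g : ℤ, N' ≤ g → P'.eval (g : ℚ) = len (GrLC.deg0 𝒜) (GrLC.comp 𝒜 NG.gr g) :=
      ⟨max N hi + e, fun g hg => by
        rw [hP', hPQ g (by omega), hPQ (g - e) (by omega), hlenQ g,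
          len_comp_shift, ← sub_eq_add_neg, add_sub_cancel_left]⟩
    have hlt : J < J ⊔ Ideal.span {y} := by
      refine lt_of_le_of_ne le_sup_left fun heq => ?_
      have hyJ : y ∈ J := by
        rw [heq]
        exact Ideal.mem_sup_right (Ideal.mem_span_singleton_self y)
      obtain ⟨x, hx⟩ := exists_ne (0 : QG.carrier)
      refine hx (hreg ?_)
      change y • x = y • 0
      obtain ⟨v, rfl⟩ := hπs x
      rw [smul_zero, ← map_smul, hJ y hyJ v, map_zero]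
    have hJN : ∀ r ∈ J ⊔ Ideal.span {y}, ∀ x : NG.carrier, r • x = 0 := fun r hr x => by
      obtain ⟨b, hb, b', hb', rfl⟩ := Submodule.mem_sup.1 hr
      obtain ⟨c, rfl⟩ := Ideal.mem_span_singleton'.1 hb'
      obtain ⟨v, rfl⟩ := hψs x
      obtain ⟨w, rfl⟩ := hπs v
      rw [← map_smul, add_smul, map_add, ← map_smul π₀ b, hJ b hb w,
        map_zero, map_zero, zero_add, mul_smul, smul_comm]
      exact (Submodule.Quotient.mk_eq_zero Y).2 ⟨c • π₀ w, rfl⟩
    have hstep : ∀ g : ℤ, chi a d EQ g - P.eval (g : ℚ) = chi a d EQ (g - e) - P.eval ((g - e : ℤ) : ℚ) := fun g => by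
      have h : chi a d EQ g = chi a d (shiftRes EQ (-(e : ℤ))) g + chi a d EN g := by
        rw [chi, chi, chi, (sum_additive a (f := f) (π := ψ₀) hreg hψs (Submodule.ker_mkQ Y).symm hfgr hψ₀ d g
          (hcd SG (d + 1) g (Nat.lt_succ_self d)) (shiftRes EQ (-(e : ℤ))) EQ EN
          (fun i => fl_Hcomp a ha flS (shiftRes EQ (-(e : ℤ))) i g) (fun i => fl_Hcomp a ha flN EN i g)).2, hlenQ g]
        ring
      rw [ih _ hlt NG hNf flN hJN EN P' hPN g, hP', chi_shift d EQ (-(e : ℤ)) g, ← sub_eq_add_neg g (e : ℤ)] at h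
      linarith
    obtain ⟨N₁, hN₁⟩ : ∃ N₁ : ℤ, ∀ g, N₁ ≤ g → chi a d EQ g = len (GrLC.deg0 𝒜) (GrLC.comp 𝒜 QG.gr g) := by
      choose r hr using fun i => (bound_and_finite a ha i QG.carrier QG.gr hQf).1
      obtain ⟨N₁, hN₁⟩ := ((Finset.range (d + 1)).image r).bddAbove
      refine ⟨N₁, fun g hg => ?_⟩
      rw [chi, Finset.sum_eq_zero fun i hi => ?_, sub_zero]
      haveI : Subsingleton (EQ.Hcomp a i g) := subsingleton_of_forall_eq 0 fun x => Subtype.ext
        ((AddSubgroup.mem_bot).1 (hr i g ((hN₁ (Finset.mem_image_of_mem r hi)).trans hg) EQ ▸ (x.2 : x.1 ∈ EQ.Hgr a i g)))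
      rw [len_subsingleton, mul_zero]
    have hper : ∀ (k : ℕ) (g : ℤ), chi a d EQ g - P.eval (g : ℚ) =
        chi a d EQ (g + k * e) - P.eval ((g + k * e : ℤ) : ℚ) := by
      intro k
      induction k with
      | zero => intro g; simp
      | succ k ihk =>
        intro g
        rw [ihk g, hstep (g + ((k + 1 : ℕ) : ℤ) * e), show g + ((k + 1 : ℕ) : ℤ) * e - e = g + k * e by push_cast; ring]
    obtain ⟨k, hk⟩ : ∃ k : ℕ, max (max N hi) N₁ ≤ g + k * e := by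
      refine ⟨(max (max N hi) N₁ - g).toNat, ?_⟩
      have h1 : ((max (max N hi) N₁ - g).toNat : ℤ) ≤ ((max (max N hi) N₁ - g).toNat : ℤ) * e :=
        le_mul_of_one_le_right (by omega) (by exact_mod_cast he)
      omega
    have h := hper k g
    rw [hN₁ _ (le_of_max_le_right hk), hPQ _ (le_of_max_le_left hk)] at h
    linarith

end Groth.L04.Graded
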