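import Groth.Agent.L12.GrLCArt
import Mathlib.RingTheory.Length
import Mathlib.RingTheory.HopkinsLevitzki
import Mathlib.Data.Rat.Defs

/-!
# Alternating sums of lengths of pieces of graded local cohomology
-/

set_option autoImplicit false
set_option maxHeartbeats 800000
universe u

open DirectSum Groth.L12.GrLCLib

namespace Groth.L04.Graded

section Len

variable {A : Type u} [CommRing A] [IsArtinianRing A]
variable (A) in
/-- The length as a rational number. -/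
noncomputable def len (N : Type u) [AddCommGroup N] [Module A N] : ℚ := ((Module.length A N).toNat : ℚ)

variable {N P Q : Type u} [AddCommGroup N] [Module A N] [AddCommGroup P] [Module A P] [AddCommGroup Q] [Module A Q]

theorem length_ne_top_of_isArtinian [IsArtinian A N] : Module.length A N ≠ ⊤ := by
  haveI : IsNoetherian A N := IsSemiprimaryRing.isNoetherian_iff_isArtinian.2 ‹_›
  exact Module.length_ne_top

omit [IsArtinianRing A] in
theorem len_subsingleton [Subsingleton N] : len A N = 0 := by simp [len, Module.length_eq_zero]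

omit [IsArtinianRing A] in
theorem len_congr (e : N ≃ₗ[A] P) : len A N = len A P := by rw [len, len, e.length_eq]

theorem len_ker_add_range [IsArtinian A N] (f : N →ₗ[A] P) :
    len A N = len A (LinearMap.ker f) + len A (LinearMap.range f) := by
  have h := Module.length_eq_add_of_exact (LinearMap.ker f).subtype f.rangeRestrict
    (Submodule.subtype_injective _) f.surjective_rangeRestrict
    (LinearMap.exact_iff.2 (by rw [LinearMap.ker_rangeRestrict, Submodule.range_subtype]))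
  haveI : IsArtinian A (LinearMap.range f) := isArtinian_of_surjective N f.rangeRestrict f.surjective_rangeRestrict
  rw [len, len, len, h, ENat.toNat_add length_ne_top_of_isArtinian length_ne_top_of_isArtinian, Nat.cast_add]

theorem len_exact [IsArtinian A P] {f : N →ₗ[A] P} {g : P →ₗ[A] Q} (h : Function.Exact f g) :
    len A P = len A (LinearMap.range f) + len A (LinearMap.range g) := by
  rw [len_ker_add_range g, len_congr (LinearEquiv.ofEq _ _ h.linearMap_ker_eq)]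

theorem len_injective [IsArtinian A N] {f : N →ₗ[A] P} (h : Function.Injective f) :
    len A N = len A (LinearMap.range f) :=
  len_congr (LinearEquiv.ofInjective f h)

theorem len_surjective {f : N →ₗ[A] P} (h : Function.Surjective f) : len A (LinearMap.range f) = len A P :=
  len_congr (LinearEquiv.ofTop _ (LinearMap.range_eq_top.2 h))

omit [IsArtinianRing A] in
theorem alternating_sum (a b c rf rg rd : ℕ → ℚ) (d : ℕ) (ha0 : a 0 = rf 0) (ha : ∀ i, a (i + 1) = rd i + rf (i + 1))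
    (hb : ∀ i, b i = rf i + rg i) (hc : ∀ i, c i = rg i + rd i) (hd : rd d = 0) :
    ∑ i ∈ Finset.range (d + 1), (-1 : ℚ) ^ i * b i =
      (∑ i ∈ Finset.range (d + 1), (-1 : ℚ) ^ i * a i) + ∑ i ∈ Finset.range (d + 1), (-1 : ℚ) ^ i * c i := by
  have h : ∀ D, (∑ i ∈ Finset.range (D + 1), (-1 : ℚ) ^ i * a i) + (∑ i ∈ Finset.range (D + 1), (-1 : ℚ) ^ i * c i) -
      (∑ i ∈ Finset.range (D + 1), (-1 : ℚ) ^ i * b i) = (-1) ^ D * rd D := fun D => by
    induction D with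
    | zero => simp [ha0, hb, hc]
    | succ D ih =>
      rw [Finset.sum_range_succ _ (D + 1), Finset.sum_range_succ _ (D + 1), Finset.sum_range_succ _ (D + 1), ha, hb, hc,
        pow_succ]
      linear_combination ih
  linear_combination -h d + (-1 : ℚ) ^ d * hd * (-1)

end Len

variable {R : Type u} [CommRing R] [IsNoetherianRing R] {𝒜 : ℤ → AddSubgroup R} [GradedRing 𝒜]
  [IsArtinianRing (GrLC.deg0 𝒜)] {m : HomogeneousIdeal 𝒜}

variable {M : Type u} [AddCommGroup M] [Module R M] {ℳ : ℤ → AddSubgroup M} [DirectSum.Decomposition ℳ]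
  [SetLike.GradedSMul 𝒜 ℳ]

variable (m) in
/-- Hilbert function minus the alternating sum of the lengths of local cohomology. -/
noncomputable def chi (d : ℕ) (E : GrLC.StarInjRes 𝒜 ℳ) (g : ℤ) : ℚ :=
  len (GrLC.deg0 𝒜) (GrLC.comp 𝒜 ℳ g) - ∑ i ∈ Finset.range (d + 1), (-1 : ℚ) ^ i * len (GrLC.deg0 𝒜) (E.Hcomp m i g)

/-- The restriction of a homogeneous map to pieces. -/
noncomputable def pieceMap {N : Type u} [AddCommGroup N] [Module R N] {𝒩 : ℤ → AddSubgroup N}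
    [SetLike.GradedSMul 𝒜 𝒩] (f : M →ₗ[R] N) {g g' : ℤ} (hf : ∀ x ∈ ℳ g, f x ∈ 𝒩 g') :
    GrLC.comp 𝒜 ℳ g →ₗ[GrLC.deg0 𝒜] GrLC.comp 𝒜 𝒩 g' :=
  (f.restrictScalars (GrLC.deg0 𝒜)).restrict hf

omit [IsArtinianRing (GrLC.deg0 𝒜)] in
theorem len_comp_shift (d g : ℤ) :
    len (GrLC.deg0 𝒜) (GrLC.comp 𝒜 (shG 𝒜 ℳ d).gr g) = len (GrLC.deg0 𝒜) (GrLC.comp 𝒜 ℳ (g + d)) :=
  len_congr
    { toFun := fun x => ⟨x.1, x.2⟩
      map_add' := fun _ _ => rfl
      map_smul' := fun _ _ => rfl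
      invFun := fun x => ⟨x.1, x.2⟩
      left_inv := fun _ => rfl
      right_inv := fun _ => rfl }

omit [IsArtinianRing (GrLC.deg0 𝒜)] in
theorem chi_shift (d : ℕ) (E : GrLC.StarInjRes 𝒜 ℳ) (e g : ℤ) :
    chi m d (shiftRes E e) g = chi m d E (g + e) := by
  refine congrArg₂ (· - ·) (len_comp_shift e g) (Finset.sum_congr rfl fun i _ => ?_)
  congr 1

variable (hpos : ∀ n : ℤ, n < 0 → 𝒜 n = ⊥) (hm : GrLC.IsStarLocal 𝒜 m)

include hpos in
theorem isArtinian_piece [Module.Finite R M] (g : ℤ) : IsArtinian (GrLC.deg0 𝒜) (GrLC.comp 𝒜 ℳ g) := by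
  haveI := isNoetherian_comp 𝒜 ℳ g
  exact IsSemiprimaryRing.isNoetherian_iff_isArtinian.1 ‹_›

variable {M₁ : Type u} [AddCommGroup M₁] [Module R M₁] {ℳ₁ : ℤ → AddSubgroup M₁} [DirectSum.Decomposition ℳ₁]
  [SetLike.GradedSMul 𝒜 ℳ₁] [Module.Finite R M₁]
variable {M₃ : Type u} [AddCommGroup M₃] [Module R M₃] {ℳ₃ : ℤ → AddSubgroup M₃} [DirectSum.Decomposition ℳ₃]
  [SetLike.GradedSMul 𝒜 ℳ₃] [Module.Finite R M₃]
variable [Module.Finite R M] {f : M₁ →ₗ[R] M} {π : M →ₗ[R] M₃} (hf : Function.Injective f)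
  (hπ : Function.Surjective π) (hfπ : LinearMap.range f = LinearMap.ker π) (hfgr : GrLC.IsGrHom ℳ₁ ℳ f)
  (hπgr : GrLC.IsGrHom ℳ ℳ₃ π)

include hpos hf hπ hfπ hfgr hπgr in
theorem len_comp_additive (g : ℤ) : len (GrLC.deg0 𝒜) (GrLC.comp 𝒜 ℳ g) =
    len (GrLC.deg0 𝒜) (GrLC.comp 𝒜 ℳ₁ g) + len (GrLC.deg0 𝒜) (GrLC.comp 𝒜 ℳ₃ g) := by
  haveI := isArtinian_piece (ℳ := ℳ) hpos g
  haveI := isArtinian_piece (ℳ := ℳ₁) hpos g
  let F := pieceMap (𝒜 := 𝒜) f (hfgr g)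
  let G := pieceMap (𝒜 := 𝒜) π (hπgr g)
  have hFG : Function.Exact F G := fun y => by
    constructor
    · intro hy
      obtain ⟨x, hx⟩ : y.1 ∈ LinearMap.range f := hfπ ▸ LinearMap.mem_ker.2 (congrArg Subtype.val hy)
      refine ⟨⟨cp ℳ₁ g x, cp_mem ℳ₁ g x⟩, Subtype.ext ?_⟩
      change f (cp ℳ₁ g x) = y.1
      rw [show f (cp ℳ₁ g x) = cp ℳ g (f x) from (cp_map ℳ₁ ℳ f.toAddMonoidHom hfgr g x).symm, hx]
      exact cp_same ℳ y.2
    · rintro ⟨x, rfl⟩
      exact Subtype.ext (show π (f x.1) = 0 from LinearMap.mem_ker.1 ((SetLike.ext_iff.1 hfπ _).1 (LinearMap.mem_range_self f x.1)))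
  rw [len_exact hFG, ← len_injective (f := F) fun x y h => Subtype.ext (hf (congrArg Subtype.val h)),
    len_surjective (f := G) fun y => ?_]
  obtain ⟨x, hx⟩ := hπ y.1
  refine ⟨⟨cp ℳ g x, cp_mem ℳ g x⟩, Subtype.ext ?_⟩
  change π (cp ℳ g x) = y.1
  rw [show π (cp ℳ g x) = cp ℳ₃ g (π x) from (cp_map ℳ ℳ₃ π.toAddMonoidHom hπgr g x).symm, hx]
  exact cp_same ℳ₃ y.2

include hpos hm hf hπ hfπ hfgr hπgr in
theorem chi_additive {d : ℕ} (hd : ringKrullDim R ≤ d) (E₁ : GrLC.StarInjRes 𝒜 ℳ₁) (E : GrLC.StarInjRes 𝒜 ℳ)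
    (E₃ : GrLC.StarInjRes 𝒜 ℳ₃) (g : ℤ) : chi m d E g = chi m d E₁ g + chi m d E₃ g := by
  obtain ⟨φ, hφ⟩ := exists_map E₁ E f hfgr
  obtain ⟨ψ, hψ⟩ := exists_map E E₃ π hπgr
  obtain ⟨δ, hδ, hx1, hx2, hx3, hx0⟩ := exists_les E₁ E E₃ m hf hπ hfπ hfgr hπgr hφ hψ
  haveI : ∀ i, IsArtinian (GrLC.deg0 𝒜) (E₁.Hcomp m i g) := fun i => (good_starLocal m hpos hm i M₁ ℳ₁ ‹_›).2 E₁ g
  haveI : ∀ i, IsArtinian (GrLC.deg0 𝒜) (E.Hcomp m i g) := fun i => (good_starLocal m hpos hm i M ℳ ‹_›).2 E g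
  haveI : ∀ i, IsArtinian (GrLC.deg0 𝒜) (E₃.Hcomp m i g) := fun i => (good_starLocal m hpos hm i M₃ ℳ₃ ‹_›).2 E₃ g
  let F := fun i => compMap (hφ.Hmap m i) (hφ.Hmap_grHom m i g)
  let G := fun i => compMap (hψ.Hmap m i) (hψ.Hmap_grHom m i g)
  let D := fun i => compMap (δ i) (hδ i g)
  have e1 : ∀ i, Function.Exact (F i) (G i) := fun i y => by
    refine ⟨fun hy => ?_, ?_⟩
    · obtain ⟨z, hz, hzy⟩ := exists_preimage m (hφ.Hmap m i) (hφ.Hmap_grHom m i) y.2 ((hx1 i y.1).1 (congrArg Subtype.val hy))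
      exact ⟨⟨z, hz⟩, Subtype.ext hzy⟩
    · rintro ⟨z, rfl⟩
      exact Subtype.ext ((hx1 i _).2 ⟨z.1, rfl⟩)
  have e2 : ∀ i, Function.Exact (G i) (D i) := fun i y => by
    refine ⟨fun hy => ?_, ?_⟩
    · obtain ⟨z, hz, hzy⟩ := exists_preimage m (hψ.Hmap m i) (hψ.Hmap_grHom m i) y.2 ((hx2 i y.1).1 (congrArg Subtype.val hy))
      exact ⟨⟨z, hz⟩, Subtype.ext hzy⟩
    · rintro ⟨z, rfl⟩
      exact Subtype.ext ((hx2 i _).2 ⟨z.1, rfl⟩)
  have e3 : ∀ i, Function.Exact (D i) (F (i + 1)) := fun i y => by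
    refine ⟨fun hy => ?_, ?_⟩
    · obtain ⟨z, hz, hzy⟩ := exists_preimage m (δ i) (hδ i) y.2 ((hx3 i y.1).1 (congrArg Subtype.val hy))
      exact ⟨⟨z, hz⟩, Subtype.ext hzy⟩
    · rintro ⟨z, rfl⟩
      exact Subtype.ext ((hx3 i _).2 ⟨z.1, rfl⟩)
  have hd0 : len (GrLC.deg0 𝒜) (LinearMap.range (D d)) = 0 := by
    haveI : Subsingleton (E₁.Hcomp m (d + 1) g) := subsingleton_of_forall_eq 0 fun x => Subtype.ext
      ((AddSubgroup.mem_bot).1 (van_above_dim m hd (Nat.lt_succ_self d) g E₁ ▸ (x.2 : x.1 ∈ E₁.Hgr m (d + 1) g)))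
    exact len_subsingleton
  have h := alternating_sum (fun i => len (GrLC.deg0 𝒜) (E₁.Hcomp m i g)) (fun i => len (GrLC.deg0 𝒜) (E.Hcomp m i g))
    (fun i => len (GrLC.deg0 𝒜) (E₃.Hcomp m i g)) (fun i => len (GrLC.deg0 𝒜) (LinearMap.range (F i)))
    (fun i => len (GrLC.deg0 𝒜) (LinearMap.range (G i))) (fun i => len (GrLC.deg0 𝒜) (LinearMap.range (D i))) d
    (len_injective (f := F 0) fun x y h => Subtype.ext (hx0 (congrArg Subtype.val h)))
    (fun i => len_exact (e3 i)) (fun i => len_exact (e1 i)) (fun i => len_exact (e2 i)) hd0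
  rw [chi, chi, chi, h, len_comp_additive hpos hf hπ hfπ hfgr hπgr g]
  ring

end Groth.L04.Graded
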