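import Groth.Agent.L04.Graded.SerreGen

/-!
# Serre's formula along a shift

A graded module `MM` with a submodule agreeing with a shift of `MM` outside degree zero.
-/

set_option autoImplicit false
set_option maxHeartbeats 800000
universe u

open DirectSum Groth.L12.GrLCLib Polynomial

namespace Groth.L04.Graded

variable {R : Type u} [CommRing R] [IsNoetherianRing R] {𝒜 : ℤ → AddSubgroup R} [GradedRing 𝒜]

theorem serre_shift (a : HomogeneousIdeal 𝒜) (ha : a.toIdeal = Ideal.span (⋃ n ∈ Set.Ioi (0 : ℤ), (𝒜 n : Set R)))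
    {D : ℕ} (hD : ∀ (M : Type u) [AddCommGroup M] [Module R M] (ℳ : ℤ → AddSubgroup M)
      [DirectSum.Decomposition ℳ] [SetLike.GradedSMul 𝒜 ℳ] (i : ℕ) (g : ℤ), D < i → Van a ℳ i g)
    {MM PM ZM SM GM : GrLC.GMod.{u} 𝒜} (hMf : Module.Finite R MM.carrier)
    (ιp : PM.carrier →ₗ[R] MM.carrier) (πZ : MM.carrier →ₗ[R] ZM.carrier) (hιi : Function.Injective ιp)
    (hπs : Function.Surjective πZ) (hex : LinearMap.range ιp = LinearMap.ker πZ)
    (hιp : GrLC.IsGrHom PM.gr MM.gr ιp) (hπZ : GrLC.IsGrHom MM.gr ZM.gr πZ)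
    (hZt : GrLC.gam a.toIdeal ZM.carrier = ⊤) (hZg : ∀ g : ℤ, g ≠ 0 → ∀ z ∈ ZM.gr g, z = 0)
    (u : SM.carrier →ₗ[R] PM.carrier) (hu : Function.Bijective u)
    (hud : ∀ g : ℤ, ∀ x ∈ SM.gr g, u x ∈ PM.gr (g + 1))
    (ιs : SM.carrier →ₗ[R] MM.carrier) (πg : MM.carrier →ₗ[R] GM.carrier) (hιsi : Function.Injective ιs)
    (hπgs : Function.Surjective πg) (hexg : LinearMap.range ιs = LinearMap.ker πg)
    (hιs : GrLC.IsGrHom SM.gr MM.gr ιs) (hπg : GrLC.IsGrHom MM.gr GM.gr πg)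
    (hGf : Module.Finite R GM.carrier) (flG : ∀ g, IsFiniteLength (GrLC.deg0 𝒜) (GrLC.comp 𝒜 GM.gr g))
    (L : ℕ → ℚ) (hGlen : ∀ j : ℕ, len (GrLC.deg0 𝒜) (GrLC.comp 𝒜 GM.gr j) = L (j + 1) - L j)
    (P : ℚ[X]) (N : ℕ) (hN : ∀ j : ℕ, N ≤ j → P.eval (j : ℚ) = L j) (E0 : GrLC.StarInjRes 𝒜 MM.gr) (n : ℕ) :
    (∀ i, IsFiniteLength (GrLC.deg0 𝒜) (E0.Hcomp a i (n : ℤ))) ∧
      P.eval (n : ℚ) - L n = ∑ i ∈ Finset.range (D + 1), (-1 : ℚ) ^ i * len (GrLC.deg0 𝒜) (E0.Hcomp a i (n : ℤ)) := by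
  obtain ⟨Ep⟩ := nonempty_starInjRes 𝒜 PM.gr
  obtain ⟨EZ⟩ := nonempty_starInjRes 𝒜 ZM.gr
  obtain ⟨EG⟩ := nonempty_starInjRes 𝒜 GM.gr
  let ES : GrLC.StarInjRes 𝒜 SM.gr :=
    { X := (shiftRes Ep 1).X
      d := (shiftRes Ep 1).d
      ε := Ep.ε ∘ₗ u
      d_grHom := (shiftRes Ep 1).d_grHom
      ε_grHom := fun g x hx => Ep.ε_grHom (g + 1) _ (hud g x hx)
      ε_injective := Ep.ε_injective.comp hu.1
      exact_zero := Ep.exact_zero.trans (LinearMap.range_comp_of_range_eq_top _ (LinearMap.range_eq_top.2 hu.2)).symm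
      exact_succ := (shiftRes Ep 1).exact_succ
      starInj := (shiftRes Ep 1).starInj }
  -- the Rees module and its positive part agree outside degree zero
  obtain ⟨φ, hφ⟩ := exists_map Ep E0 ιp hιp
  obtain ⟨ψ, hψ⟩ := exists_map E0 EZ πZ hπZ
  obtain ⟨δ, hδ, hx1, hx2, hx3, hx0⟩ := exists_les Ep E0 EZ a hιi
    hπs hex hιp hπZ hφ hψ
  have hZ0 : ∀ (i : ℕ) (g : ℤ), g ≠ 0 → ∀ z ∈ EZ.Hgr a i g, z = 0 := fun i g hg z hz => by
    have hv : Van a ZM.gr i g := by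
      rcases i with _ | i
      · exact (van_zero_iff a).2 fun z _ hz => hZg g hg z hz
      · exact van_of_torsion a hZt i.succ_pos g
    exact (AddSubgroup.mem_bot).1 (hv EZ ▸ hz)
  let T : ∀ (i : ℕ) (g : ℤ), Ep.Hcomp a i g →ₗ[GrLC.deg0 𝒜] E0.Hcomp a i g :=
    fun i g => compMap (hφ.Hmap a i) (hφ.Hmap_grHom a i g)
  have hT : ∀ (i : ℕ) (g : ℤ), g ≠ 0 → Function.Bijective (T i g) := fun i g hg => by
    refine ⟨(injective_iff_map_eq_zero (T i g)).2 fun x hx => Subtype.ext ?_, fun y => ?_⟩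
    · have hx' : hφ.Hmap a i x.1 = 0 := congrArg Subtype.val hx
      rcases i with _ | i
      · exact hx0 (hx'.trans (map_zero _).symm)
      · obtain ⟨z, hz, hzx⟩ := exists_preimage a (δ i) (hδ i) x.2 ((hx3 i x.1).1 hx')
        rw [← hzx, hZ0 i g hg z hz, map_zero]
        rfl
    · obtain ⟨z, hz, hzy⟩ := exists_preimage a (hφ.Hmap a i) (hφ.Hmap_grHom a i) y.2
        ((hx1 i y.1).1 (hZ0 i g hg _ (hψ.Hmap_grHom a i g _ y.2)))
      exact ⟨⟨z, hz⟩, Subtype.ext hzy⟩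
  have hSlen : ∀ (i : ℕ) (g : ℤ),
      len (GrLC.deg0 𝒜) (ES.Hcomp a i g) = len (GrLC.deg0 𝒜) (Ep.Hcomp a i (g + 1)) := fun i g => rfl
  have hSfl : ∀ (i : ℕ) (g : ℤ), IsFiniteLength (GrLC.deg0 𝒜) (Ep.Hcomp a i (g + 1)) →
      IsFiniteLength (GrLC.deg0 𝒜) (ES.Hcomp a i g) := fun i g h => h
  -- the quotient
  let PG' : ℚ[X] := P.comp (Polynomial.X + 1) - P
  have hPG : ∀ j : ℕ, PG'.eval (j : ℚ) = P.eval ((j + 1 : ℕ) : ℚ) - P.eval (j : ℚ) := fun j => by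
    simp [PG', Polynomial.eval_comp]
  have hchi : ∀ g : ℤ, chi a D EG g = PG'.eval (g : ℚ) :=
    chi_eq_eval' a ha (fun X i g hi => hD X.carrier X.gr i g hi) (⊥ : Ideal R) GM hGf flG
      (fun r hr x => by rw [(Submodule.mem_bot _).1 hr, zero_smul]) EG PG' ⟨(N : ℤ), fun g hg => by
        obtain ⟨j, rfl⟩ := Int.eq_ofNat_of_zero_le ((Int.natCast_nonneg N).trans hg)
        rw [hGlen j, Int.cast_natCast, hPG, hN j (by omega), hN (j + 1) (by omega)]⟩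
  -- descending induction
  let h : ℤ → ℚ := fun g => ∑ i ∈ Finset.range (D + 1), (-1 : ℚ) ^ i * len (GrLC.deg0 𝒜) (E0.Hcomp a i g)
  have hstep : ∀ j : ℕ, (∀ i, IsFiniteLength (GrLC.deg0 𝒜) (E0.Hcomp a i ((j + 1 : ℕ) : ℤ))) →
      (∀ i, IsFiniteLength (GrLC.deg0 𝒜) (E0.Hcomp a i (j : ℤ))) ∧
      h (j : ℤ) + L j - P.eval (j : ℚ) = h ((j + 1 : ℕ) : ℤ) + L (j + 1) - P.eval ((j + 1 : ℕ) : ℚ) := fun j hfin => by
    have hj : ((j : ℤ) + 1) ≠ 0 := by omega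
    have hcast : ((j + 1 : ℕ) : ℤ) = (j : ℤ) + 1 := by push_cast; rfl
    rw [hcast] at hfin ⊢
    have hflp : ∀ i, IsFiniteLength (GrLC.deg0 𝒜) (Ep.Hcomp a i ((j : ℤ) + 1)) := fun i =>
      (hfin i).of_injective (hT i _ hj).1
    obtain ⟨hfl0, hsum⟩ := sum_additive a (f := ιs) (π := πg)
      (ℳ₁ := SM.gr) (ℳ := MM.gr) (ℳ₃ := GM.gr)
      hιsi hπgs hexg hιs hπg
      D (j : ℤ) (hD SM.carrier SM.gr (D + 1) _ (Nat.lt_succ_self D)) ES E0 EG
      (fun i => hSfl i j (hflp i)) (fun i => fl_Hcomp a ha flG EG i j)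
    refine ⟨hfl0, ?_⟩
    have hS : ∑ i ∈ Finset.range (D + 1), (-1 : ℚ) ^ i * len (GrLC.deg0 𝒜) (ES.Hcomp a i (j : ℤ)) = h ((j : ℤ) + 1) := by
      refine Finset.sum_congr rfl fun i _ => ?_
      rw [hSlen, len, len, (LinearEquiv.ofBijective (T i _) (hT i _ hj)).length_eq]
    have h0 : h (j : ℤ) = h ((j : ℤ) + 1) +
        ∑ i ∈ Finset.range (D + 1), (-1 : ℚ) ^ i * len (GrLC.deg0 𝒜) (EG.Hcomp a i (j : ℤ)) := by
      rw [← hS]
      exact hsum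
    have h4 := hchi (j : ℤ)
    rw [chi, hGlen j, Int.cast_natCast, hPG] at h4
    linarith
  choose r hr using fun i => (bound_and_finite a ha i MM.carrier MM.gr hMf).1
  obtain ⟨R0, hR0⟩ := ((Finset.range (D + 1)).image r).bddAbove
  have hlarge : ∀ (g : ℤ), R0 ≤ g → ∀ i, Subsingleton (E0.Hcomp a i g) := fun g hg i => by
    refine subsingleton_of_forall_eq 0 fun x => Subtype.ext ((AddSubgroup.mem_bot).1 ?_)
    have hv : E0.Hgr a i g = ⊥ := by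
      by_cases hi : i ∈ Finset.range (D + 1)
      · exact hr i g ((hR0 (Finset.mem_image_of_mem r hi)).trans hg) E0
      · exact hD _ _ i g (by simp only [Finset.mem_range] at hi; omega) E0
    exact hv ▸ (x.2 : x.1 ∈ E0.Hgr a i g)
  have main : ∀ (k j : ℕ), max R0.toNat N ≤ j + k →
      (∀ i, IsFiniteLength (GrLC.deg0 𝒜) (E0.Hcomp a i (j : ℤ))) ∧ h (j : ℤ) + L j - P.eval (j : ℚ) = 0 := by
    intro k
    induction k with
    | zero =>
      intro j hj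
      have hs := hlarge (j : ℤ) (by omega)
      refine ⟨fun i => by haveI := hs i; exact IsFiniteLength.of_subsingleton, ?_⟩
      have h0 : h (j : ℤ) = 0 := Finset.sum_eq_zero fun i _ => by haveI := hs i; rw [len_subsingleton, mul_zero]
      rw [h0, hN j (by omega), zero_add]
      exact sub_self _
    | succ k ih =>
      intro j hj
      obtain ⟨h1, h2⟩ := ih (j + 1) (by omega)
      obtain ⟨h3, h4⟩ := hstep j h1
      exact ⟨h3, h4.trans h2⟩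
  obtain ⟨hfl, heq⟩ := main (max R0.toNat N) n (by omega)
  exact ⟨hfl, by linarith⟩

end Groth.L04.Graded
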