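import Groth.Agent.L12.GrLCVan
import Groth.Agent.L12.GrLCExt
import Groth.Agent.L12.GrLCShift
import Groth.Agent.L04.LC.Vanish

/-!
# Top graded local cohomology is right exact
-/

set_option autoImplicit false
set_option maxHeartbeats 1000000
universe u

open DirectSum Groth.L12.GrLCLib

noncomputable section

namespace Groth.L04.Graded

variable {R : Type u} [CommRing R] {σ : Type u} [SetLike σ R] [AddSubgroupClass σ R]
variable {𝒜 : ℤ → σ} [GradedRing 𝒜] (a : HomogeneousIdeal 𝒜)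

section Mor

variable {M : Type u} [AddCommGroup M] [Module R M] {τ : Type u} [SetLike τ M] [AddSubgroupClass τ M]
  {ℳ : ℤ → τ} [DirectSum.Decomposition ℳ] [SetLike.GradedSMul 𝒜 ℳ]
variable {N : Type u} [AddCommGroup N] [Module R N] {τ' : Type u} [SetLike τ' N] [AddSubgroupClass τ' N]
  {𝒩 : ℤ → τ'} [DirectSum.Decomposition 𝒩] [SetLike.GradedSMul 𝒜 𝒩]
variable {P : Type u} [AddCommGroup P] [Module R P] {τ'' : Type u} [SetLike τ'' P] [AddSubgroupClass τ'' P]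
  {𝒬 : ℤ → τ''} [DirectSum.Decomposition 𝒬] [SetLike.GradedSMul 𝒜 𝒬]

/-- The map on cohomology induced by a homogeneous map. -/
def Hmor (E : GrLC.StarInjRes 𝒜 ℳ) (E' : GrLC.StarInjRes 𝒜 𝒩) (f : M →ₗ[R] N) (hf : GrLC.IsGrHom ℳ 𝒩 f)
    (i : ℕ) : E.H a i →ₗ[R] E'.H a i :=
  (exists_map E E' f hf).choose_spec.Hmap a i

variable {E : GrLC.StarInjRes 𝒜 ℳ} {E' : GrLC.StarInjRes 𝒜 𝒩} {E'' : GrLC.StarInjRes 𝒜 𝒬}

theorem Hmor_eq {f : M →ₗ[R] N} (hf : GrLC.IsGrHom ℳ 𝒩 f) {φ : ∀ n, (E.X n).carrier →ₗ[R] (E'.X n).carrier}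
    (hφ : IsMap E E' f φ) (i : ℕ) : Hmor a E E' f hf i = hφ.Hmap a i :=
  IsMap.Hmap_congr a _ hφ i

theorem Hmor_grHom {f : M →ₗ[R] N} (hf : GrLC.IsGrHom ℳ 𝒩 f) (i : ℕ) :
    GrLC.IsGrHom (E.Hgr a i) (E'.Hgr a i) (Hmor a E E' f hf i) :=
  IsMap.Hmap_grHom a _ i

theorem Hmor_comp {f : M →ₗ[R] N} (hf : GrLC.IsGrHom ℳ 𝒩 f) {g : N →ₗ[R] P} (hg : GrLC.IsGrHom 𝒩 𝒬 g)
    {h : M →ₗ[R] P} (hh : GrLC.IsGrHom ℳ 𝒬 h) (e : g ∘ₗ f = h) (i : ℕ) :
    Hmor a E' E'' g hg i ∘ₗ Hmor a E E' f hf i = Hmor a E E'' h hh i := by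
  subst e
  rw [Hmor_eq a hh ((exists_map E E' f hf).choose_spec.comp (exists_map E' E'' g hg).choose_spec), IsMap.Hmap_comp]
  rfl

theorem Hmor_add {f f' : M →ₗ[R] N} (hf : GrLC.IsGrHom ℳ 𝒩 f) (hf' : GrLC.IsGrHom ℳ 𝒩 f')
    (h : GrLC.IsGrHom ℳ 𝒩 (f + f')) (i : ℕ) :
    Hmor a E E' (f + f') h i = Hmor a E E' f hf i + Hmor a E E' f' hf' i := by
  rw [Hmor_eq a h ((exists_map E E' f hf).choose_spec.add (exists_map E E' f' hf').choose_spec), IsMap.Hmap_add]
  rfl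

theorem Hmor_zero {f : M →ₗ[R] N} (hf : GrLC.IsGrHom ℳ 𝒩 f) (h : f = 0) (i : ℕ) : Hmor a E E' f hf i = 0 := by
  subst h
  rw [Hmor_eq a hf (IsMap.zero E E')]
  exact IsMap.Hmap_eq_zero a (IsMap.zero E E') i

theorem Hmor_id (hf : GrLC.IsGrHom ℳ ℳ (LinearMap.id : M →ₗ[R] M)) (i : ℕ) :
    Hmor a E E LinearMap.id hf i = LinearMap.id := by
  rw [Hmor_eq a hf (IsMap.id E), IsMap.Hmap_id]

theorem Hmor_congr {f f' : M →ₗ[R] N} (hf : GrLC.IsGrHom ℳ 𝒩 f) (hf' : GrLC.IsGrHom ℳ 𝒩 f') (e : f = f')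
    (i : ℕ) : Hmor a E E' f hf i = Hmor a E E' f' hf' i := by
  subst e; rfl

theorem exists_Hmor_sum {κ : Type*} (s : Finset κ) (f : κ → M →ₗ[R] N) (hf : ∀ c, GrLC.IsGrHom ℳ 𝒩 (f c)) (i : ℕ) :
    ∃ h : GrLC.IsGrHom ℳ 𝒩 (∑ c ∈ s, f c), Hmor a E E' (∑ c ∈ s, f c) h i = ∑ c ∈ s, Hmor a E E' (f c) (hf c) i := by
  classical
  induction s using Finset.induction with
  | empty =>
    refine ⟨fun g x _ => by rw [Finset.sum_empty, LinearMap.zero_apply]; exact zero_mem _, ?_⟩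
    exact (Hmor_zero a _ Finset.sum_empty i).trans Finset.sum_empty.symm
  | insert c t hct ih =>
    obtain ⟨h, e⟩ := ih
    have hsum : GrLC.IsGrHom ℳ 𝒩 (f c + ∑ x ∈ t, f x) := fun g x hx => add_mem (hf c g x hx) (h g x hx)
    rw [Finset.sum_insert hct, Finset.sum_insert hct]
    exact ⟨hsum, by rw [Hmor_add a (hf c) h, e]⟩

end Mor

section Psi

variable (I : GrLC.StarInjRes 𝒜 𝒜)
variable {M : Type u} [AddCommGroup M] [Module R M] {τ : Type u} [SetLike τ M] [AddSubgroupClass τ M]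
  {ℳ : ℤ → τ} [DirectSum.Decomposition ℳ] [SetLike.GradedSMul 𝒜 ℳ] (E : GrLC.StarInjRes 𝒜 ℳ)

variable (𝒜) in
/-- Multiplication with an element, out of the shifted ring. -/
def mulMap (d : ℤ) (x : M) : (shG 𝒜 𝒜 (-d)).carrier →ₗ[R] M := LinearMap.toSpanSingleton R M x

variable (𝒜 ℳ) in
theorem span_grHom {d : ℤ} {x : M} (hx : x ∈ ℳ d) :
    GrLC.IsGrHom (shG 𝒜 𝒜 (-d)).gr ℳ (mulMap 𝒜 d x) := fun g r hr => by
  let r' : R := r
  change r' • x ∈ ℳ g
  have h := smul_mem' 𝒜 ℳ (show r' ∈ 𝒜 (g + -d) from hr) hx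
  rwa [neg_add_cancel_right] at h

/-- The map `H(R) → H(M)` induced by multiplication with a homogeneous element. -/
def psi {d : ℤ} {x : M} (hx : x ∈ ℳ d) (i : ℕ) : I.H a i →ₗ[R] E.H a i :=
  Hmor a (shiftRes I (-d)) E (mulMap 𝒜 d x) (span_grHom 𝒜 ℳ hx) i ∘ₗ
    (unshift I (-d) a i).symm.toLinearMap

theorem psi_mem {d : ℤ} {x : M} (hx : x ∈ ℳ d) (i : ℕ) {g : ℤ} {v : I.H a i} (hv : v ∈ I.Hgr a i g) :
    psi a I E hx i v ∈ E.Hgr a i (g + d) := by
  have hy : (unshift I (-d) a i).symm v ∈ (shiftRes I (-d)).Hgr a i (g + d) :=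
    (unshift_grHom I (-d) a i (g + d) ((unshift I (-d) a i).symm v)).2 (by
      rw [(unshift I (-d) a i).apply_symm_apply v, add_neg_cancel_right]
      exact hv)
  exact Hmor_grHom a (E := shiftRes I (-d)) (E' := E) (span_grHom 𝒜 ℳ hx) i (g + d)
    ((unshift I (-d) a i).symm v) hy

theorem psi_comp {N : Type u} [AddCommGroup N] [Module R N] {τ' : Type u} [SetLike τ' N] [AddSubgroupClass τ' N]
    {𝒩 : ℤ → τ'} [DirectSum.Decomposition 𝒩] [SetLike.GradedSMul 𝒜 𝒩] (E' : GrLC.StarInjRes 𝒜 𝒩)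
    {f : M →ₗ[R] N} (hf : GrLC.IsGrHom ℳ 𝒩 f) {d : ℤ} {x : M} (hx : x ∈ ℳ d) (i : ℕ) (v : I.H a i) :
    Hmor a E E' f hf i (psi a I E hx i v) = psi a I E' (hf d x hx) i v :=
  LinearMap.congr_fun (Hmor_comp a (E := shiftRes I (-d)) (E' := E) (E'' := E') (span_grHom 𝒜 ℳ hx) hf
    (span_grHom 𝒜 𝒩 (hf d x hx)) (LinearMap.ext fun (r : R) => map_smul f r x) i) _

variable {t : ℕ} (deg : Fin t → ℤ)

/-- The coordinates of an element of a free module. -/
def coef (y : (freeG 𝒜 deg).carrier) : Fin t → R := y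

variable (𝒜) in
/-- The basis of a free module. -/
def basisF (b : Fin t) : (freeG 𝒜 deg).carrier := (Pi.single b 1 : Fin t → R)

variable (𝒜) in
/-- The projections of a free module. -/
def projF (b : Fin t) : (freeG 𝒜 deg).carrier →ₗ[R] (shG 𝒜 𝒜 (-deg b)).carrier :=
  LinearMap.proj (R := R) (φ := fun _ : Fin t => R) b

theorem sum_coef (y : (freeG 𝒜 deg).carrier) : ∑ b, coef deg y b • basisF 𝒜 deg b = y := by
  refine Eq.trans ?_ (pi_eq_sum_univ' (coef deg y)).symm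
  rfl

theorem single_mem (b : Fin t) : basisF 𝒜 deg b ∈ (freeG 𝒜 deg).gr (deg b) := fun c _ => by
  change (Pi.single b (1 : R) : Fin t → R) c ∈ 𝒜 (deg b - deg c)
  rcases eq_or_ne c b with rfl | h
  · rw [Pi.single_eq_same, sub_self]
    exact SetLike.one_mem_graded 𝒜
  · rw [Pi.single_eq_of_ne h]
    exact zero_mem _

theorem proj_grHom (b : Fin t) :
    GrLC.IsGrHom (freeG 𝒜 deg).gr (shG 𝒜 𝒜 (-deg b)).gr (projF 𝒜 deg b) := fun g v hv => by
  change coef deg v b ∈ 𝒜 (g + -deg b)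
  rw [← sub_eq_add_neg]
  exact hv b (Set.mem_univ b)

variable (F : GrLC.StarInjRes 𝒜 (freeG 𝒜 deg).gr)

/-- The coordinates on the cohomology of a free module. -/
def coord (b : Fin t) (i : ℕ) : F.H a i →ₗ[R] I.H a i :=
  (unshift I (-deg b) a i).toLinearMap ∘ₗ Hmor a F (shiftRes I (-deg b)) _ (proj_grHom deg b) i

theorem sum_psi_coord (i : ℕ) (w : F.H a i) :
    ∑ b, psi a I F (single_mem deg b) i (coord a I deg F b i w) = w := by
  let f : Fin t → (freeG 𝒜 deg).carrier →ₗ[R] (freeG 𝒜 deg).carrier :=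
    fun b => mulMap 𝒜 (deg b) (basisF 𝒜 deg b) ∘ₗ projF 𝒜 deg b
  have hf : ∀ b, GrLC.IsGrHom (freeG 𝒜 deg).gr (freeG 𝒜 deg).gr (f b) := fun b g v hv =>
    span_grHom 𝒜 (freeG 𝒜 deg).gr (single_mem deg b) g _ (proj_grHom deg b g v hv)
  have hsum : ∑ b, f b = LinearMap.id := LinearMap.ext fun v => by
    rw [LinearMap.sum_apply, LinearMap.id_apply]
    exact sum_coef deg v
  obtain ⟨h, e⟩ := exists_Hmor_sum a (E := F) (E' := F) Finset.univ f hf i
  have key : ∀ b, psi a I F (single_mem deg b) i (coord a I deg F b i w) = Hmor a F F (f b) (hf b) i w := fun b => by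
    simp only [psi, coord, LinearMap.comp_apply, LinearEquiv.coe_coe, LinearEquiv.symm_apply_apply]
    exact LinearMap.congr_fun (Hmor_comp a (E := F) (E' := shiftRes I (-deg b)) (E'' := F) (proj_grHom deg b)
      (span_grHom 𝒜 (freeG 𝒜 deg).gr (single_mem deg b)) (hf b) rfl i) w
  rw [Finset.sum_congr rfl fun b _ => key b, ← LinearMap.sum_apply, ← e,
    Hmor_congr a h (fun _ _ hx => hx) hsum, Hmor_id]
  rfl

theorem coord_psi {d : ℤ} {y : (freeG 𝒜 deg).carrier} (hy : y ∈ (freeG 𝒜 deg).gr d) (b : Fin t) (i : ℕ)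
    (v : I.H a i) : coord a I deg F b i (psi a I F hy i v) = coef deg y b • v := by
  let c : R := coef deg y b
  let φ : ∀ n, ((shiftRes I (-d)).X n).carrier →ₗ[R] ((shiftRes I (-deg b)).X n).carrier :=
    fun n => (c • LinearMap.id : (I.X n).carrier →ₗ[R] (I.X n).carrier)
  have hc : GrLC.IsGrHom (shG 𝒜 𝒜 (-d)).gr (shG 𝒜 𝒜 (-deg b)).gr (projF 𝒜 deg b ∘ₗ mulMap 𝒜 d y) := fun g r hr =>
    proj_grHom deg b g _ (span_grHom 𝒜 (freeG 𝒜 deg).gr hy g r hr)
  have hφ : IsMap (shiftRes I (-d)) (shiftRes I (-deg b)) (projF 𝒜 deg b ∘ₗ mulMap 𝒜 d y) φ :=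
    { gr := fun n g x hx => by
        let x' : (I.X n).carrier := x
        change c • x' ∈ (I.X n).gr (g + -deg b)
        have h := smul_mem' 𝒜 (I.X n).gr (show c ∈ 𝒜 (d - deg b) from hy b (Set.mem_univ b))
          (show x' ∈ (I.X n).gr (g + -d) from hx)
        rwa [show d - deg b + (g + -d) = g + -deg b by ring] at h
      aug := LinearMap.ext fun (r : R) => by
        change c • I.ε r = I.ε (r • c : R)
        rw [← map_smul, smul_eq_mul, smul_eq_mul, mul_comm]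
      comm := fun n => LinearMap.ext fun (x : (I.X n).carrier) => map_smul (I.d n) c x }
  have h1 := LinearMap.congr_fun (Hmor_comp a (E := shiftRes I (-d)) (E' := F) (E'' := shiftRes I (-deg b))
    (span_grHom 𝒜 (freeG 𝒜 deg).gr hy) (proj_grHom deg b) hc rfl i) ((unshift I (-d) a i).symm v)
  rw [Hmor_eq a hc hφ] at h1
  refine (congrArg (unshift I (-deg b) a i) h1).trans ?_
  obtain ⟨z, rfl⟩ := Submodule.Quotient.mk_surjective _ v
  rfl

end Psi

section Top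

variable [IsNoetherianRing R] (I : GrLC.StarInjRes 𝒜 𝒜) {n : ℕ} (hn : ringKrullDim R ≤ n)
variable {M : Type u} [AddCommGroup M] [Module R M] {τ : Type u} [SetLike τ M] [AddSubgroupClass τ M]
  {ℳ : ℤ → τ} [DirectSum.Decomposition ℳ] [SetLike.GradedSMul 𝒜 ℳ] [Module.Finite R M]
  (E : GrLC.StarInjRes 𝒜 ℳ)

include hn

theorem exists_sum_psi : ∃ (t : ℕ) (deg : Fin t → ℤ) (x : Fin t → M) (hx : ∀ b, x b ∈ ℳ (deg b)),
    ∀ w : E.H a n, ∃ v : Fin t → I.H a n, ∑ b, psi a I E (hx b) n (v b) = w := by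
  obtain ⟨t, deg, g, hg, hsurj⟩ := exists_free_cover 𝒜 ℳ
  refine ⟨t, deg, fun b => g (basisF 𝒜 deg b), fun b => hg _ _ (single_mem deg b), fun w => ?_⟩
  obtain ⟨F⟩ := nonempty_starInjRes 𝒜 (freeG 𝒜 deg).gr
  have hK : (LinearMap.ker g).IsHomogeneous (freeG 𝒜 deg).gr := ker_isHomogeneous (freeG 𝒜 deg).gr ℳ hg
  let K := subG 𝒜 (freeG 𝒜 deg).gr _ hK
  obtain ⟨EK⟩ := nonempty_starInjRes 𝒜 K.gr
  let incl : K.carrier →ₗ[R] (freeG 𝒜 deg).carrier := (LinearMap.ker g).subtype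
  obtain ⟨φ, hφ⟩ := exists_map EK F incl fun _ _ hx => hx
  obtain ⟨ψ, hψ⟩ := exists_map F E g hg
  obtain ⟨δ, -, -, hx2, -, -⟩ := exists_les EK F E a (f := incl) (g := g) (LinearMap.ker g).injective_subtype hsurj
    (Submodule.range_subtype _) (fun _ _ hx => hx) hg hφ hψ
  haveI : Subsingleton (EK.H a (n + 1)) := by
    obtain ⟨e⟩ := nonempty_H_equiv EK a (n + 1)
    haveI := Groth.L04.LC.cdLE_of_ringKrullDim_le a.toIdeal n hn K.carrier (n + 1) (Nat.lt_succ_self n)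
    exact e.toEquiv.subsingleton
  obtain ⟨u, rfl⟩ := (hx2 n w).1 (Subsingleton.elim _ _)
  refine ⟨fun b => coord a I deg F b n u, ?_⟩
  conv_rhs => rw [← sum_psi_coord a I deg F n u, map_sum]
  refine Finset.sum_congr rfl fun b _ => ?_
  rw [← Hmor_eq a hg hψ]
  exact (psi_comp a I F E hg (single_mem deg b) n _).symm

/-- Right exactness of the top local cohomology. -/
theorem exists_presentation : ∃ (t : ℕ) (deg : Fin t → ℤ) (x : Fin t → M) (hx : ∀ b, x b ∈ ℳ (deg b)),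
    Submodule.span R (Set.range x) = ⊤ ∧ (∀ w : E.H a n, ∃ v : Fin t → I.H a n, ∑ b, psi a I E (hx b) n (v b) = w) ∧
    (∀ (y : Fin t → R), ∑ b, y b • x b = 0 → ∀ h : I.H a n, ∑ b, psi a I E (hx b) n (y b • h) = 0) ∧
    ∀ v : Fin t → I.H a n, ∑ b, psi a I E (hx b) n (v b) = 0 →
      v ∈ Submodule.span R {p | ∃ (y : Fin t → R) (h : I.H a n), ∑ b, y b • x b = 0 ∧ p = fun b => y b • h} := by
  obtain ⟨t, deg, g, hg, hsurj⟩ := exists_free_cover 𝒜 ℳ
  obtain ⟨F⟩ := nonempty_starInjRes 𝒜 (freeG 𝒜 deg).gr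
  have hK : (LinearMap.ker g).IsHomogeneous (freeG 𝒜 deg).gr := ker_isHomogeneous (freeG 𝒜 deg).gr ℳ hg
  let K := subG 𝒜 (freeG 𝒜 deg).gr _ hK
  obtain ⟨EK⟩ := nonempty_starInjRes 𝒜 K.gr
  let incl : K.carrier →ₗ[R] (freeG 𝒜 deg).carrier := (LinearMap.ker g).subtype
  have hincl : GrLC.IsGrHom K.gr (freeG 𝒜 deg).gr incl := fun _ _ hx => hx
  obtain ⟨φ, hφ⟩ := exists_map EK F incl hincl
  obtain ⟨ψ, hψ⟩ := exists_map F E g hg
  obtain ⟨δ, -, hx1, hx2, -, -⟩ := exists_les EK F E a (f := incl) (g := g) (LinearMap.ker g).injective_subtype hsurj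
    (Submodule.range_subtype _) hincl hg hφ hψ
  haveI : Subsingleton (EK.H a (n + 1)) := by
    obtain ⟨e⟩ := nonempty_H_equiv EK a (n + 1)
    haveI := Groth.L04.LC.cdLE_of_ringKrullDim_le a.toIdeal n hn K.carrier (n + 1) (Nat.lt_succ_self n)
    exact e.toEquiv.subsingleton
  have hgx : ∀ y, g y = ∑ b, coef deg y b • g (basisF 𝒜 deg b) := fun y => by
    conv_lhs => rw [← sum_coef deg y, map_sum]
    exact Finset.sum_congr rfl fun b _ => map_smul g _ _
  have hψsum : ∀ u : F.H a n, ∑ b, psi a I E (hg _ _ (single_mem deg b)) n (coord a I deg F b n u) = hψ.Hmap a n u := by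
    intro u
    conv_rhs => rw [← sum_psi_coord a I deg F n u, map_sum]
    refine Finset.sum_congr rfl fun b _ => ?_
    rw [← Hmor_eq a hg hψ]
    exact (psi_comp a I F E hg (single_mem deg b) n _).symm
  refine ⟨t, deg, fun b => g (basisF 𝒜 deg b), fun b => hg _ _ (single_mem deg b), ?_, fun w => ?_,
    fun y hy h => ?_, fun v hv => ?_⟩
  · refine eq_top_iff.2 fun m _ => ?_
    obtain ⟨y, rfl⟩ := hsurj m
    rw [hgx y]
    exact sum_mem fun b _ => Submodule.smul_mem _ _ (Submodule.subset_span ⟨b, rfl⟩)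
  · obtain ⟨u, rfl⟩ := (hx2 n w).1 (Subsingleton.elim _ _)
    exact ⟨fun b => coord a I deg F b n u, hψsum u⟩
  · have hker : (y : (freeG 𝒜 deg).carrier) ∈ LinearMap.ker g := (hgx (y : (freeG 𝒜 deg).carrier)).trans hy
    suffices key : ∀ z : (freeG 𝒜 deg).carrier,
        ∑ b, psi a I E (hg _ _ (single_mem deg b)) n (coef deg z b • h) = 0 ∨ g z ≠ 0 from
      (key y).resolve_right (not_not.2 hker)
    intro z
    by_cases hz : g z = 0
    swap
    · exact Or.inr hz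
    refine Or.inl ?_
    obtain ⟨s, hs, -⟩ := exists_sum_cp (freeG 𝒜 deg).gr z
    have hhom : ∀ G, ∑ b, psi a I E (hg _ _ (single_mem deg b)) n (coef deg (cp (freeG 𝒜 deg).gr G z) b • h) = 0 := by
      intro G
      have hG := cp_mem (freeG 𝒜 deg).gr G z
      have h1 := hψsum (psi a I F hG n h)
      simp only [coord_psi] at h1
      rw [h1, ← Hmor_eq a hg hψ, psi_comp a I F E hg hG n]
      have h0 : g (cp (freeG 𝒜 deg).gr G z) = 0 := ker_isHomogeneous (freeG 𝒜 deg).gr ℳ hg G hz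
      unfold psi
      rw [Hmor_zero a _ (show mulMap 𝒜 G (g (cp (freeG 𝒜 deg).gr G z)) = 0 from
        LinearMap.ext fun (r : R) => by change r • g _ = 0; rw [h0, smul_zero]), LinearMap.zero_comp]
      rfl
    have hcoef : ∀ b, coef deg z b = ∑ G ∈ s, coef deg (cp (freeG 𝒜 deg).gr G z) b := fun b => by
      have := congrArg (projF 𝒜 deg b) hs
      rw [map_sum] at this
      exact this.symm
    simp only [hcoef, Finset.sum_smul, map_sum]
    rw [Finset.sum_comm]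
    exact Finset.sum_eq_zero fun G _ => hhom G
  · let u : F.H a n := ∑ b, psi a I F (single_mem deg b) n (v b)
    have hcu : (fun b => coord a I deg F b n u) = v := funext fun b => by
      rw [map_sum, Finset.sum_eq_single b]
      · rw [coord_psi, show coef deg (basisF 𝒜 deg b) b = 1 from Pi.single_eq_same (M := fun _ : Fin t => R) b 1, one_smul]
      · intro c _ hcb
        rw [coord_psi, show coef deg (basisF 𝒜 deg c) b = 0 from Pi.single_eq_of_ne (M := fun _ : Fin t => R) hcb.symm 1, zero_smul]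
      · exact fun h => absurd (Finset.mem_univ b) h
    have h0 : hψ.Hmap a n u = 0 := by
      rw [← hψsum u]
      refine (Finset.sum_congr rfl fun b _ => ?_).trans hv
      rw [congrFun hcu b]
    obtain ⟨w, hw⟩ := (hx1 n u).1 h0
    haveI : Module.Finite R K.carrier := Module.Finite.of_fg ((inferInstance : IsNoetherian R (Fin t → R)).noetherian _)
    obtain ⟨s, e, y, hy, hspan⟩ := exists_sum_psi a I hn EK
    obtain ⟨z, rfl⟩ := hspan w
    rw [← hcu, ← hw, ← Hmor_eq a hincl hφ, map_sum]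
    let cf : F.H a n →ₗ[R] (Fin t → I.H a n) := LinearMap.pi fun b => coord a I deg F b n
    change cf _ ∈ _
    rw [map_sum]
    refine sum_mem fun l _ => Submodule.subset_span ⟨coef deg (incl (y l)), z l, ?_, funext fun b => ?_⟩
    · rw [← hgx]
      exact (y l).2
    · change coord a I deg F b n (Hmor a EK F incl hincl n _) = _
      rw [psi_comp a I EK F hincl (hy l) n, coord_psi]

end Top

end Groth.L04.Graded
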